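import Mathlib

/-!
The arithmetic of the degree bound for the triality groups: the borderline degree does not divide the
group order.
-/

set_option autoImplicit false

namespace Cfsg.Agent.SimpleFacts.MinDegTriality

/-- A common divisor of `m` and `a` divides any integral combination. -/
theorem gcd_dvd_comb {m a : ℕ} (u v : ℤ) (c : ℕ) (h : u * (m : ℤ) + v * (a : ℤ) = (c : ℤ)) :
    Nat.gcd m a ∣ c := by
  rw [← Int.natCast_dvd_natCast, ← h]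
  exact dvd_add (dvd_mul_of_dvd_right (Int.natCast_dvd_natCast.2 (Nat.gcd_dvd_left m a)) _)
    (dvd_mul_of_dvd_right (Int.natCast_dvd_natCast.2 (Nat.gcd_dvd_right m a)) _)

theorem dvd_of_gcd {m a b c : ℕ} (h : m ∣ a * b) (hc : Nat.gcd m a ∣ c) : m ∣ c * b :=
  ((dvd_gcd_mul_iff_dvd_mul).2 h).trans (mul_dvd_mul_right hc b)

/-- The borderline degree does not divide the order of the triality group. -/
theorem not_dvd {q : ℕ} (hq : 2 ≤ q) :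
    ¬ (q - 1) * (q ^ 4 + q ^ 3 + 1) ∣ q ^ 12 * (q ^ 2 - 1) * (q ^ 6 - 1) * (q ^ 8 + q ^ 4 + 1) := by
  intro h
  obtain ⟨m, hm⟩ : ∃ m, m = q ^ 4 + q ^ 3 + 1 := ⟨_, rfl⟩
  rw [← hm] at h
  replace h : m ∣ q ^ 12 * (q ^ 2 - 1) * (q ^ 6 - 1) * (q ^ 8 + q ^ 4 + 1) :=
    (dvd_mul_left m (q - 1)).trans h
  have hmZ : (m : ℤ) = (q : ℤ) ^ 4 + (q : ℤ) ^ 3 + 1 := by rw [hm]; push_cast; ring
  have h1 : (1 : ℕ) ≤ q := by omega
  have c2 : ((q - 1 : ℕ) : ℤ) = (q : ℤ) - 1 := by push_cast [Nat.cast_sub h1]; ring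
  have c3 : ((q ^ 3 - 1 : ℕ) : ℤ) = (q : ℤ) ^ 3 - 1 := by
    push_cast [Nat.cast_sub (Nat.one_le_pow 3 q (by omega))]; ring
  -- the order as a product
  have e : q ^ 12 * (q ^ 2 - 1) * (q ^ 6 - 1) * (q ^ 8 + q ^ 4 + 1) =
      q ^ 12 * ((q + 1) * ((q - 1) * ((q ^ 3 + 1) * ((q ^ 3 - 1) *
        ((q ^ 2 - q + 1) * ((q ^ 2 + q + 1) * (q ^ 4 - q ^ 2 + 1))))))) := by
    have h2 : 1 ≤ q ^ 2 := Nat.one_le_pow _ _ (by omega)
    have h6 : 1 ≤ q ^ 6 := Nat.one_le_pow _ _ (by omega)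
    have h3 : 1 ≤ q ^ 3 := Nat.one_le_pow _ _ (by omega)
    have hqq : q ≤ q ^ 2 := Nat.le_self_pow two_ne_zero q
    have h24 : q ^ 2 ≤ q ^ 4 := Nat.pow_le_pow_right (by omega) (by norm_num)
    zify [h1, h2, h3, h6, hqq, h24]
    ring
  rw [e] at h
  have g0 : Nat.gcd m (q ^ 12) ∣ 1 := by
    have : Nat.Coprime m q := Nat.dvd_one.1 (gcd_dvd_comb 1 (-((q : ℤ) ^ 3 + (q : ℤ) ^ 2)) 1
      (by rw [hmZ]; ring))
    exact (Nat.Coprime.pow_right 12 this).dvd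
  have g1 : Nat.gcd m (q + 1) ∣ 1 :=
    gcd_dvd_comb 1 (-(q : ℤ) ^ 3) 1 (by rw [hmZ]; push_cast; ring)
  have g2 : Nat.gcd m (q - 1) ∣ 3 :=
    gcd_dvd_comb 1 (-((q : ℤ) ^ 3 + 2 * (q : ℤ) ^ 2 + 2 * q + 2)) 3 (by rw [hmZ, c2]; push_cast; ring)
  have g3 : Nat.gcd m (q ^ 3 + 1) ∣ 1 := by
    have hg := gcd_dvd_comb (m := m) (a := q ^ 3 + 1) (-1) ((q : ℤ) + 1) q
      (by rw [hmZ]; push_cast; ring)
    have hq1 : Nat.Coprime m q := Nat.dvd_one.1 (gcd_dvd_comb 1 (-((q : ℤ) ^ 3 + (q : ℤ) ^ 2)) 1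
      (by rw [hmZ]; ring))
    have := Nat.dvd_gcd (Nat.gcd_dvd_left m (q ^ 3 + 1)) hg
    rwa [hq1.gcd_eq_one] at this
  have g4 : Nat.gcd m (q ^ 3 - 1) ∣ 9 := by
    have hg := gcd_dvd_comb (m := m) (a := q ^ 3 - 1) 1 (-((q : ℤ) + 1)) (q + 2)
      (by rw [hmZ, c3]; push_cast; ring)
    refine (Nat.dvd_gcd (Nat.gcd_dvd_right m (q ^ 3 - 1)) hg).trans ?_
    exact gcd_dvd_comb (-1) ((q : ℤ) ^ 2 - 2 * q + 4) 9 (by rw [c3]; push_cast; ring)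
  have g5 : Nat.gcd m (q ^ 2 - q + 1) ∣ 1 := by
    refine (Nat.gcd_dvd_gcd_of_dvd_right m ?_).trans g3
    refine ⟨q + 1, ?_⟩
    have hqq : q ≤ q ^ 2 := Nat.le_self_pow two_ne_zero q
    zify [hqq]
    ring
  have g6 : Nat.gcd m (q ^ 2 + q + 1) ∣ 9 := by
    refine (Nat.gcd_dvd_gcd_of_dvd_right m ?_).trans g4
    refine ⟨q - 1, ?_⟩
    zify [h1, Nat.one_le_pow 3 q (by omega)]
    ring
  have g7 : Nat.gcd m (q ^ 4 - q ^ 2 + 1) ∣ 1 := by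
    have hq4 : q ^ 2 ≤ q ^ 4 := Nat.pow_le_pow_right (by omega) (by norm_num)
    have hg := gcd_dvd_comb (m := m) (a := q ^ 4 - q ^ 2 + 1) 1 (-1) (q ^ 2 * (q + 1))
      (by rw [hmZ]; push_cast [Nat.cast_sub hq4]; ring)
    have hq1 : Nat.Coprime m q := Nat.dvd_one.1 (gcd_dvd_comb 1 (-((q : ℤ) ^ 3 + (q : ℤ) ^ 2)) 1
      (by rw [hmZ]; ring))
    have := Nat.dvd_gcd (Nat.gcd_dvd_left m (q ^ 4 - q ^ 2 + 1)) hg
    refine this.trans ?_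
    rw [Nat.Coprime.gcd_mul_left_cancel_right (q + 1) (hq1.pow_right 2).symm]
    exact g1
  have k0 := dvd_of_gcd h g0
  rw [one_mul] at k0
  have k1 := dvd_of_gcd k0 g1
  rw [one_mul] at k1
  have k2 := dvd_of_gcd k1 g2
  rw [mul_left_comm] at k2
  have k3 := dvd_of_gcd k2 g3
  rw [one_mul, mul_left_comm] at k3
  have k4 := dvd_of_gcd k3 g4
  rw [show ∀ x y : ℕ, 9 * (3 * ((q ^ 2 - q + 1) * (x * y))) = (q ^ 2 - q + 1) * (x * (y * 27))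
    from fun x y => by ring] at k4
  have k5 := dvd_of_gcd k4 g5
  rw [one_mul] at k5
  have k6 := dvd_of_gcd k5 g6
  rw [mul_left_comm] at k6
  have k7 := dvd_of_gcd k6 g7
  norm_num at k7
  rcases (by omega : q = 2 ∨ q = 3 ∨ 4 ≤ q) with rfl | rfl | h4
  · norm_num [hm] at k7
  · norm_num [hm] at k7
  · have := Nat.le_of_dvd (by norm_num) k7
    have h4' : 4 ^ 4 ≤ q ^ 4 := Nat.pow_le_pow_left h4 4
    have h3' : 4 ^ 3 ≤ q ^ 3 := Nat.pow_le_pow_left h4 3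
    omega

end Cfsg.Agent.SimpleFacts.MinDegTriality
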