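import Cfsg.Agent.SimpleFacts.MinDegTriality.Fixed
import Cfsg.Agent.SimpleFacts.MinDegTriality.Arith
import Cfsg.Agent.Lib.Chevalley.Twist.SimpleD4

/-!
The smallest degree of a non-trivial irreducible complex representation of a triality group.
-/

set_option autoImplicit false
set_option linter.unusedSectionVars false
set_option linter.unusedSimpArgs false

namespace Cfsg.Agent.SimpleFacts.MinDegTriality

open Cfsg.Lie Cfsg.Agent.Chevalley Cfsg.Agent.Chevalley.Group Cfsg.Agent.Chevalley.Borel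
  Cfsg.Agent.Chevalley.Weyl Cfsg.Agent.Chevalley.Twist Cfsg.Agent.Chevalley.Twist.D4
  Cfsg.Agent.SimpleFacts.TrialitySubfield

attribute [local irreducible] P eA eC eD eN xg

variable {K : Type*} [Field K] [Fintype K] {q : ℕ} {θ : K →+* K} {hK : Fintype.card K = q ^ 3}
  (h : Tri θ q) (X : Setup (K := K) hK)
  {V : Type*} [AddCommGroup V] [Module ℂ V] [FiniteDimensional ℂ V]
  (ρ : Representation ℂ (twistedD4 K q) V) {ψ : AddChar (E₀ q θ) ℂ}

include X in
theorem ker_eq_bot (hq : IsPrimePow q) (hirr : ρ.IsIrreducible) (h2 : 2 ≤ Module.finrank ℂ V) :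
    MonoidHom.ker ρ = ⊥ := by
  have := (D4.isSimple X hq).1
  refine (Subgroup.Normal.eq_bot_or_eq_top (H := MonoidHom.ker ρ) inferInstance).resolve_right
    fun htop => ?_
  obtain ⟨hnt, hU⟩ := (Cfsg.Agent.Characters.isIrreducible_iff ρ).1 hirr
  obtain ⟨v, hv⟩ := exists_ne (0 : V)
  rcases hU (Submodule.span ℂ {v}) (fun g u hu => by
    rwa [show ρ g = 1 from (MonoidHom.mem_ker (f := ρ)).1 (htop ▸ Subgroup.mem_top g),
      Module.End.one_apply]) with h0 | h0
  · exact hv (Submodule.span_singleton_eq_bot.1 h0)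
  · have h1 := finrank_span_singleton (K := ℂ) hv
    rw [h0, finrank_top] at h1
    omega

/-- A character of the fixed field applied to a linear form is a character. -/
noncomputable def chW (ψ : AddChar (E₀ q θ) ℂ) (h : Tri θ q) (w : Wt q θ) : AddChar (Wt q θ) ℂ where
  toFun a := ψ (w.1 * a.1 + trE θ h (w.2.1 * a.2.1) + trE θ h (w.2.2.1 * a.2.2.1) + w.2.2.2 * a.2.2.2)
  map_zero_eq_one' := by simp [trE_zero θ h]
  map_add_eq_mul' a b := by
    rw [← AddChar.map_add_eq_mul]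
    congr 1
    simp only [Prod.fst_add, Prod.snd_add, mul_add, trE_add θ h]
    abel

/-- The same for the central characters. -/
noncomputable def chC (ψ : AddChar (E₀ q θ) ℂ) (h : Tri θ q) (w : E₀ q θ × K × E₀ q θ) :
    AddChar (E₀ q θ × K × E₀ q θ) ℂ where
  toFun a := ψ (w.1 * a.1 + trE θ h (w.2.1 * a.2.1) + w.2.2 * a.2.2)
  map_zero_eq_one' := by simp [trE_zero θ h]
  map_add_eq_mul' a b := by
    rw [← AddChar.map_add_eq_mul]
    congr 1
    simp only [Prod.fst_add, Prod.snd_add, mul_add, trE_add θ h]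
    abel

variable (hψ : ψ ≠ 1)
include hψ

theorem psi_eq_iff {a b : E₀ q θ} (e : ∀ s, ψ (a * s) = ψ (b * s)) : a = b := by
  refine sub_eq_zero.1 (psi_mul_inj hψ fun s => ?_)
  rw [sub_mul, AddChar.map_sub_eq_div, e, div_self (AddChar.val_isUnit ψ _).ne_zero]

theorem psi_tr_eq_iff {a b : K} (e : ∀ c, ψ (trE θ h (a * c)) = ψ (trE θ h (b * c))) : a = b := by
  refine sub_eq_zero.1 (psi_trE_inj hψ h fun c => ?_)
  rw [sub_mul, trE_sub θ h, AddChar.map_sub_eq_div, e, div_self (AddChar.val_isUnit ψ _).ne_zero]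

theorem chW_inj : Function.Injective (chW ψ h) := by
  rintro ⟨a, b, c, e⟩ ⟨a', b', c', e'⟩ hh
  have k : ∀ x, chW ψ h (a, b, c, e) x = chW ψ h (a', b', c', e') x := DFunLike.congr_fun hh
  obtain rfl : a = a' := psi_eq_iff hψ fun s => by simpa [chW, trE_zero θ h] using k (s, 0, 0, 0)
  obtain rfl : b = b' := psi_tr_eq_iff h hψ fun s => by simpa [chW, trE_zero θ h] using k (0, s, 0, 0)
  obtain rfl : c = c' := psi_tr_eq_iff h hψ fun s => by simpa [chW, trE_zero θ h] using k (0, 0, s, 0)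
  obtain rfl : e = e' := psi_eq_iff hψ fun s => by simpa [chW, trE_zero θ h] using k (0, 0, 0, s)
  rfl

theorem chC_inj : Function.Injective (chC ψ h) := by
  rintro ⟨a, b, c⟩ ⟨a', b', c'⟩ hh
  have k : ∀ x, chC ψ h (a, b, c) x = chC ψ h (a', b', c') x := DFunLike.congr_fun hh
  obtain rfl : a = a' := psi_eq_iff hψ fun s => by simpa [chC, trE_zero θ h] using k (s, 0, 0)
  obtain rfl : b = b' := psi_tr_eq_iff h hψ fun s => by simpa [chC, trE_zero θ h] using k (0, s, 0)
  obtain rfl : c = c' := psi_eq_iff hψ fun s => by simpa [chC, trE_zero θ h] using k (0, 0, s)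
  rfl

/-- Counting the two kinds of characters. -/
theorem degree_bound (hq : IsPrimePow q) (hirr : ρ.IsIrreducible) (hne : ρ (g23 X h 1) ≠ 1) :
    (q - 1) * q ^ 3 + (q - 1) + q * (q ^ 3 * (q - 1)) ≤ Module.finrank ℂ V := by
  classical
  obtain ⟨w0, hw0, hw0'⟩ := exists_wt h X ρ hirr hq hψ hne
  obtain ⟨ι, hι, f, hf, hfO, hcard⟩ := closed_bound θ h (closed_wtSet h X ρ hq) hw0 hw0'
  choose vA hA0 hA using fun i => (hfO i).1
  choose vB hB0 hB using fun w : {w : E₀ q θ × K × E₀ q θ // w.2.2 ≠ 0} =>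
    forall_cw h X ρ hψ hq hne w.1 w.2
  have := Fintype.ofFinite {w : E₀ q θ × K × E₀ q θ // w.2.2 ≠ 0}
  have hliA : LinearIndependent ℂ vA := by
    refine indep_eigen (fun a : Wt q θ =>
      ρ (g14 X h a.1) * ρ (gC X h a.2.1) * ρ (gD X h a.2.2.1) * ρ (g22 X h a.2.2.2))
      (fun i => chW ψ h (f i)) (fun a b e => hf (chW_inj h hψ e)) vA hA0 fun i a => ?_
    simp only [Module.End.mul_apply, (hA i).e22, map_smul, (hA i).eD, (hA i).eC, (hA i).e14, smul_smul]
    congr 1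
    show _ = ψ _
    simp only [AddChar.map_add_eq_mul]
    ring
  have hliB : LinearIndependent ℂ vB := by
    refine indep_eigen (fun a => ρ (fA X h a)) (fun w => chC ψ h w.1)
      (fun a b e => Subtype.ext (chC_inj h hψ e)) vB hB0 fun w a => ?_
    exact cw_apply h X ρ (hB w) a
  have hdisj : Disjoint (Submodule.span ℂ (Set.range vA)) (Submodule.span ℂ (Set.range vB)) := by
    rw [Submodule.disjoint_def]
    intro x hxA hxB
    have hx : x ∈ fixR X h ρ :=
      Submodule.span_le.2 (Set.range_subset_iff.2 fun i => (hA i).fix) hxA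
    obtain ⟨g, rfl⟩ := (Submodule.mem_span_range_iff_exists_fun ℂ).1 hxB
    refine Finset.sum_eq_zero fun w _ => ?_
    obtain ⟨r, hr⟩ : ∃ r, ψ (w.1.2.2 * r) ≠ 1 := by
      by_contra hcon
      push Not at hcon
      exact w.2 (psi_mul_inj hψ hcon)
    have h0 : ∑ j, (g j * (ψ (j.1.2.2 * r) - 1)) • vB j = 0 := by
      have h1 := (mem_fixR h X ρ).1 hx r
      simp only [map_sum, map_smul, (hB _).e23, smul_smul] at h1
      rw [← sub_eq_zero.2 h1, ← Finset.sum_sub_distrib]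
      exact Finset.sum_congr rfl fun j _ => by rw [mul_sub, mul_one, sub_smul]
    rcases mul_eq_zero.1 (Fintype.linearIndependent_iff.1 hliB _ h0 w) with h2 | h2
    · rw [h2, zero_smul]
    · exact absurd (sub_eq_zero.1 h2) hr
  have hk := (hliA.sum_type hliB hdisj).fintype_card_le_finrank
  rw [Fintype.card_sum] at hk
  have hB' : Fintype.card {w : E₀ q θ × K × E₀ q θ // w.2.2 ≠ 0} = q * (q ^ 3 * (q - 1)) := by
    rw [← Nat.card_eq_fintype_card, Nat.card_congr (show {w : E₀ q θ × K × E₀ q θ // w.2.2 ≠ 0} ≃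
      E₀ q θ × K × {s : E₀ q θ // s ≠ 0} from
      ⟨fun w => (w.1.1, w.1.2.1, ⟨w.1.2.2, w.2⟩), fun x => ⟨(x.1, x.2.1, x.2.2.1), x.2.2.2⟩,
        fun _ => rfl, fun _ => rfl⟩), Nat.card_prod, Nat.card_prod, ← Nat.card_congr unitsEquivNeZero,
      Nat.card_units, card_E θ h, Nat.card_eq_fintype_card (α := K), hK]
  omega

omit hψ

/-- The minimal degree. -/
theorem min_degree (hq : IsPrimePow q) (hirr : ρ.IsIrreducible) (h2 : 2 ≤ Module.finrank ℂ V)
    (h : Tri θ q) (X : Setup (K := K) hK) :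
    q * (q ^ 4 - q ^ 2 + 1) ≤ Module.finrank ℂ V := by
  obtain ⟨ψ, hψ⟩ := exists_psi (K := K) (q := q) (θ := θ)
  have hne : ρ (g23 X h 1) ≠ 1 := fun e => g23_ne_one h X (by
    have := (MonoidHom.mem_ker (f := ρ)).2 e
    rwa [ker_eq_bot X ρ hq hirr h2, Subgroup.mem_bot] at this)
  have hb := degree_bound h X ρ hψ hq hirr hne
  have hdvd : Module.finrank ℂ V ∣
      q ^ 12 * (q ^ 2 - 1) * (q ^ 6 - 1) * (q ^ 8 + q ^ 4 + 1) := by
    rw [← card_group X hq]
    exact Cfsg.Agent.Characters.finrank_dvd_card ρ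
  have hqq := hq.two_le
  have e1 : (q - 1) * q ^ 3 + (q - 1) + q * (q ^ 3 * (q - 1)) = (q - 1) * (q ^ 4 + q ^ 3 + 1) := by ring
  have e2 : q * (q ^ 4 - q ^ 2 + 1) = (q - 1) * (q ^ 4 + q ^ 3 + 1) + 1 := by
    have h24 : q ^ 2 ≤ q ^ 4 := Nat.pow_le_pow_right (by omega) (by norm_num)
    zify [h24, (by omega : 1 ≤ q)]
    ring
  rw [e1] at hb
  rw [e2]
  exact Nat.succ_le_of_lt (lt_of_le_of_ne hb fun e => not_dvd hqq (e ▸ hdvd))

end Cfsg.Agent.SimpleFacts.MinDegTriality
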