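import Cfsg.Agent.SimpleFacts.MinDegTriality.Moves

/-!
Vectors on which the highest root group of a triality group acts by a non-trivial character, and the
vectors fixed by it.
-/

set_option autoImplicit false
set_option linter.unusedSectionVars false
set_option linter.unusedSimpArgs false

namespace Cfsg.Agent.SimpleFacts.MinDegTriality

open Cfsg.Lie Cfsg.Agent.Chevalley Cfsg.Agent.Chevalley.Group Cfsg.Agent.Chevalley.Borel
  Cfsg.Agent.Chevalley.Weyl Cfsg.Agent.Chevalley.Twist Cfsg.Agent.Chevalley.Twist.D4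
  Cfsg.Agent.SimpleFacts.TrialitySubfield

attribute [local irreducible] P eA eC eD eN xg

variable {K : Type*} [Field K] [Fintype K] {q : ℕ} {θ : K →+* K} {hK : Fintype.card K = q ^ 3}
  (h : Tri θ q) (X : Setup (K := K) hK)
  {V : Type*} [AddCommGroup V] [Module ℂ V] (ρ : Representation ℂ (twistedD4 K q) V)
  {ψ : AddChar (E₀ q θ) ℂ}

theorem g23_ne_one : g23 X h 1 ≠ 1 := fun e => by
  have e' : xg (F := K) hC 23 (1 : K) = 1 := by
    have := congrArg Subtype.val e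
    simpa [g23] using this
  have h1 : form θ 0 0 0 0 0 1 = form θ 0 0 0 0 0 0 := by
    simp [form, e', eA_zero, eC_zero, eD_zero, xg_zero hC]
  exact one_ne_zero (form_inj θ h1).2.2.2.2.2

/-- The maximal abelian part used for the non-trivial central characters. -/
noncomputable def fA (X : Setup (K := K) hK) (h : Tri θ q) (a : E₀ q θ × K × E₀ q θ) : twistedD4 K q :=
  g14 X h a.1 * gC X h a.2.1 * g23 X h a.2.2

theorem comm_23_14 (r s : E₀ q θ) : Commute (g14 X h s) (g23 X h r) :=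
  comm_23_U h X ((mem_U_gens h X).1 s) r

theorem comm_23_C (r : E₀ q θ) (c : K) : Commute (gC X h c) (g23 X h r) :=
  comm_23_U h X ((mem_U_gens h X).2.1 c) r

theorem comm_23_D (r : E₀ q θ) (d : K) : Commute (gD X h d) (g23 X h r) :=
  comm_23_U h X ((mem_U_gens h X).2.2.1 d) r

theorem comm_23_22 (r s : E₀ q θ) : Commute (g22 X h s) (g23 X h r) :=
  comm_23_U h X ((mem_U_gens h X).2.2.2.1 s) r

theorem fA_zero : fA X h 0 = 1 := by
  simp [fA, g14_zero, gC_zero, g23_zero]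

theorem fA_add (a b : E₀ q θ × K × E₀ q θ) : fA X h (a + b) = fA X h a * fA X h b := by
  simp only [fA, Prod.fst_add, Prod.snd_add, g14_add, gC_add, g23_add]
  have e1 := (comm_14_C h X b.1 a.2.1).eq
  have e2 := (comm_23_14 h X a.2.2 b.1).eq
  have e3 := (comm_23_C h X a.2.2 b.2.1).eq
  calc g14 X h a.1 * g14 X h b.1 * (gC X h a.2.1 * gC X h b.2.1) * (g23 X h a.2.2 * g23 X h b.2.2)
      = g14 X h a.1 * (g14 X h b.1 * gC X h a.2.1) * (gC X h b.2.1 * g23 X h a.2.2) *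
          g23 X h b.2.2 := by simp only [mul_assoc]
    _ = g14 X h a.1 * gC X h a.2.1 * (g14 X h b.1 * g23 X h a.2.2) * gC X h b.2.1 *
          g23 X h b.2.2 := by rw [e1, e3]; simp only [mul_assoc]
    _ = _ := by rw [e2]; simp only [mul_assoc]

theorem cw_apply {v : V} {w : E₀ q θ × K × E₀ q θ} (hv : IsCw h X ρ ψ v w)
    (a : E₀ q θ × K × E₀ q θ) :
    ρ (fA X h a) v = ψ (w.1 * a.1 + trE θ h (w.2.1 * a.2.1) + w.2.2 * a.2.2) • v := by
  rw [fA, apply_mul_of ρ (apply_mul_of ρ (hv.e14 _) (hv.eC _)) (hv.e23 _)]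
  simp only [AddChar.map_add_eq_mul]

/-- The first shift. -/
theorem cw_shiftD {v : V} {w : E₀ q θ × K × E₀ q θ} (hv : IsCw h X ρ ψ v w) (d : K) :
    IsCw h X ρ ψ (ρ (gD X h d)⁻¹ v) (w.1, w.2.1 + (w.2.2 : K) * d, w.2.2) := by
  refine ⟨fun s => moved ρ ?_, fun c => moved ρ ?_, fun r => moved ρ ?_⟩
  · rw [← (comm_14_D h X s d).eq, mul_inv_cancel_right]
    exact hv.e14 s
  · have e : gD X h d * gC X h c * (gD X h d)⁻¹ = g23 X h (trE θ h (c * d)) * gC X h c := by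
      rw [mul_inv_eq_iff_eq_mul, mul_assoc, gC_gD, ← mul_assoc, ← mul_assoc, ← g23_add,
        add_neg_cancel, g23_zero, one_mul]
    rw [e, apply_mul_of ρ (hv.e23 _) (hv.eC _), ← AddChar.map_add_eq_mul]
    congr 2
    rw [← trE_mul θ h, ← trE_add θ h]
    congr 1
    ring
  · rw [(comm_23_D h X r d).eq, mul_inv_cancel_right]
    exact hv.e23 r

/-- The second shift. -/
theorem cw_shift22 {v : V} {w : E₀ q θ × K × E₀ q θ} (hv : IsCw h X ρ ψ v w) (e : E₀ q θ) :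
    IsCw h X ρ ψ (ρ (g22 X h e)⁻¹ v) (w.1 - w.2.2 * e, w.2.1, w.2.2) := by
  refine ⟨fun s => moved ρ ?_, fun c => moved ρ ?_, fun r => moved ρ ?_⟩
  · have e' : g22 X h e * g14 X h s * (g22 X h e)⁻¹ = g23 X h (-(s * e)) * g14 X h s := by
      rw [mul_inv_eq_iff_eq_mul, mul_assoc, g14_g22, ← mul_assoc, ← mul_assoc, ← g23_add,
        neg_add_cancel, g23_zero, one_mul]
    rw [e', apply_mul_of ρ (hv.e23 _) (hv.e14 _), ← AddChar.map_add_eq_mul]
    congr 2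
    ring
  · rw [(comm_22_C h X e c).eq, mul_inv_cancel_right]
    exact hv.eC c
  · rw [(comm_23_22 h X r e).eq, mul_inv_cancel_right]
    exact hv.e23 r

/-- The scaling. -/
theorem cw_scale (hq : IsPrimePow q) {v : V} {w : E₀ q θ × K × E₀ q θ} (hv : IsCw h X ρ ψ v w)
    {l : E₀ q θ} (hl : l ≠ 0) :
    ∃ n : twistedD4 K q, IsCw h X ρ ψ (ρ n⁻¹ v) (l * l * w.1, (l : K) * w.2.1, l * w.2.2) := by
  have hl' := ne_coe hl
  have hfix := θE θ l
  refine ⟨⟨hg hC 14 (l : K), hg14_mem θ h.pow hfix⟩, fun s => moved ρ ?_, fun c => moved ρ ?_,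
    fun r => moved ρ ?_⟩
  · refine conj_eigen ρ (hv.e14 (l * l * s)) ((hg14_conj (r := 14) (n := 2) (by simp)
      (by decide) hl' (s : K)).trans (by rw [zpow_two]; rfl)) ?_
    congr 1
    ring
  · refine conj_eigen ρ (hv.eC ((l : K) * c)) (hg14_conj_C θ hl' hfix c) ?_
    congr 2
    ring
  · refine conj_eigen ρ (hv.e23 (l * r)) ((hg14_conj (r := 23) (n := 1) (by simp)
      (by decide) hl' (r : K)).trans (by rw [zpow_one]; rfl)) ?_
    congr 1
    ring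

variable (hψ : ψ ≠ 1)
include hψ

theorem exists_cw [FiniteDimensional ℂ V] (hne : ρ (g23 X h 1) ≠ 1) :
    ∃ v w, v ≠ 0 ∧ w.2.2 ≠ 0 ∧ IsCw h X ρ ψ v w := by
  obtain ⟨U, hU⟩ : ∃ U : Submodule ℂ V, U = LinearMap.range (ρ (g23 X h 1) - 1 : Module.End ℂ V) :=
    ⟨_, rfl⟩
  have hU0 : U ≠ ⊥ := by
    rw [hU, Ne, LinearMap.range_eq_bot, sub_eq_zero]
    exact hne
  have hinv : ∀ a, ∀ u ∈ U, ρ (fA X h a) u ∈ U := by
    intro a u hu
    rw [hU] at hu ⊢
    obtain ⟨z, rfl⟩ := hu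
    have e : Commute (fA X h a) (g23 X h 1) :=
      ((comm_23_14 h X 1 a.1).mul_left (comm_23_C h X 1 a.2.1)).mul_left
        (comm_23_U h X ((mem_U_gens h X).2.2.2.2 a.2.2) 1)
    refine ⟨ρ (fA X h a) z, ?_⟩
    simp only [LinearMap.sub_apply, Module.End.one_apply, map_sub]
    simp only [← Module.End.mul_apply, ← map_mul, e.eq]
  obtain ⟨u, hu, hu0, hμ⟩ := exists_common_eigen (fun a => ρ (fA X h a)) U hU0 hinv
    (fun a b u _ => by rw [← Module.End.mul_apply, ← Module.End.mul_apply, ← map_mul, ← map_mul,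
      ← fA_add, ← fA_add, add_comm])
  obtain ⟨χ, hχ⟩ := exists_addChar ρ (fA X h) (fA_zero h X) (fA_add h X) hu0 hμ
  obtain ⟨a, ha⟩ := exists_mul_rep hψ (χ.compAddMonoidHom (AddMonoidHom.inl (E₀ q θ) (K × E₀ q θ)))
  obtain ⟨b, hb⟩ := exists_tr_rep hψ h
    (χ.compAddMonoidHom ((AddMonoidHom.inr (E₀ q θ) (K × E₀ q θ)).comp (AddMonoidHom.inl K (E₀ q θ))))
  obtain ⟨m, hm⟩ := exists_mul_rep hψ
    (χ.compAddMonoidHom ((AddMonoidHom.inr (E₀ q θ) (K × E₀ q θ)).comp (AddMonoidHom.inr K (E₀ q θ))))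
  have hcw : IsCw h X ρ ψ u (a, b, m) := by
    refine ⟨fun s => ?_, fun c => ?_, fun r => ?_⟩
    · show _ = ψ (a * s) • u
      rw [← ha, AddChar.compAddMonoidHom_apply, ← hχ]
      simp [fA, gC_zero, g23_zero]
    · show _ = ψ (trE θ h (b * c)) • u
      rw [← hb, AddChar.compAddMonoidHom_apply, ← hχ]
      simp [fA, g14_zero, g23_zero]
    · show _ = ψ (m * r) • u
      rw [← hm, AddChar.compAddMonoidHom_apply, ← hχ]
      simp [fA, g14_zero, gC_zero]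
  refine ⟨u, _, hu0, fun em => hu0 ?_, hcw⟩
  rw [hU] at hu
  obtain ⟨z, hz⟩ := hu
  refine eq_zero_of_fixed_image ρ (g := g23 X h 1) (z := z) hz ?_
  have := hcw.e23 1
  rw [show (a, b, m).2.2 = 0 from em, zero_mul, AddChar.map_zero_eq_one, one_smul] at this
  exact this

theorem forall_cw [FiniteDimensional ℂ V] (hq : IsPrimePow q) (hne : ρ (g23 X h 1) ≠ 1)
    (w : E₀ q θ × K × E₀ q θ) (hw : w.2.2 ≠ 0) : ∃ v, v ≠ 0 ∧ IsCw h X ρ ψ v w := by
  obtain ⟨v, ⟨a, b, m⟩, hv0, hm, hv⟩ := exists_cw h X ρ hψ hne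
  have hm' : m ≠ 0 := hm
  obtain ⟨n, h1⟩ := cw_scale h X ρ hq hv (div_ne_zero hw hm')
  have h2 := cw_shiftD h X ρ h1 (((w.2.2 : E₀ q θ) : K)⁻¹ *
    (w.2.1 - ((w.2.2 / m : E₀ q θ) : K) * b))
  have h3 := cw_shift22 h X ρ h2 (w.2.2⁻¹ * (w.2.2 / m * (w.2.2 / m) * a - w.1))
  have hfin : ∀ u u', IsCw h X ρ ψ u u' → u' = w → IsCw h X ρ ψ u w := fun u u' hu e => e ▸ hu
  refine ⟨_, ?_, hfin _ _ h3 ?_⟩
  · exact apply_ne ρ _ (apply_ne ρ _ (apply_ne ρ _ hv0))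
  have e : w.2.2 / m * m = w.2.2 := div_mul_cancel₀ _ hm'
  refine Prod.ext ?_ (Prod.ext ?_ e)
  · simp only [e, mul_inv_cancel_left₀ hw, sub_sub_cancel]
  · simp only [e, mul_inv_cancel_left₀ (ne_coe hw), add_sub_cancel]

/-- The highest root group fixes a non-zero vector. -/
theorem fixR_ne_bot [FiniteDimensional ℂ V] (hq : IsPrimePow q) (hne : ρ (g23 X h 1) ≠ 1) :
    fixR X h ρ ≠ ⊥ := by
  obtain ⟨v, hv0, hv⟩ := forall_cw h X ρ hψ hq hne (0, 0, 1) one_ne_zero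
  refine fun hbot => apply_ne ρ (gna X * (gnb X)⁻¹)⁻¹ hv0 ((Submodule.eq_bot_iff _).1 hbot _ ?_)
  rw [mem_fixR]
  intro r
  have e : gna X * (gnb X)⁻¹ * g23 X h r * (gna X * (gnb X)⁻¹)⁻¹ = g14 X h r := Subtype.ext (by
    show nL hC K [3, 2, 0] * (nL hC K [1])⁻¹ * xg hC 23 (r : K) *
      (nL hC K [3, 2, 0] * (nL hC K [1])⁻¹)⁻¹ = xg hC 14 (r : K)
    rw [← na_conj_22 (r : K), ← nb_conj_22 (r : K)]
    group)
  have := moved ρ (c := (1 : ℂ)) (n := gna X * (gnb X)⁻¹) (x := g23 X h r) (v := v) (by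
    rw [e, hv.e14]
    simp)
  rwa [one_smul] at this

end Cfsg.Agent.SimpleFacts.MinDegTriality
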