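import Cfsg.Agent.SimpleFacts.MinDegTriality.Ops
import Mathlib

/-!
The dual of the radical modulo its centre, the moves acting on it, and a lower bound for the size of an
invariant set of non-zero weights.
-/

set_option autoImplicit false
set_option linter.unusedSectionVars false

namespace Cfsg.Agent.SimpleFacts.MinDegTriality

open Cfsg.Agent.Chevalley.Twist Cfsg.Agent.Chevalley.Twist.D4 Cfsg.Agent.SimpleFacts.TrialitySubfield

universe u

variable {K : Type u} [Field K] [Fintype K] {q : ℕ} (θ : K →+* K)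

/-- The additive facts on the triality of the field. -/
structure Tri (θ : K →+* K) (q : ℕ) : Prop where
  pow : ∀ t, θ t = t ^ q
  two_le : 2 ≤ q
  card : Fintype.card K = q ^ 3

local notation "E" => E₀ q θ

theorem Tri.cube {θ : K →+* K} (h : Tri θ q) (t : K) : θ (θ (θ t)) = t := θ3 θ h.card h.pow t

theorem card_E (h : Tri θ q) : Nat.card E = q := by
  rw [← card_powfix h.two_le h.card]
  exact Nat.card_congr (Equiv.subtypeEquivRight fun t => by
    show θ t = t ↔ _
    rw [h.pow])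

theorem exists_moved (h : Tri θ q) : ∃ a : K, θ a ≠ a := by
  by_contra hcon
  push Not at hcon
  have h1 := card_powfix h.two_le h.card
  rw [Nat.card_congr (Equiv.subtypeUnivEquiv fun t => by rw [← h.pow, hcon]), Nat.card_eq_fintype_card,
    h.card] at h1
  have h2 := Nat.pow_lt_pow_right h.two_le (show 1 < 3 by norm_num)
  rw [pow_one, h1] at h2
  omega

theorem trc_fixed (h : Tri θ q) (x : K) : θ (trc θ x) = trc θ x := by
  simp only [trc, map_add, h.cube]; ring

theorem nrm_fixed (h : Tri θ q) (x : K) : θ (nrm θ x) = nrm θ x := by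
  simp only [nrm, map_mul, h.cube]; ring

/-- The trace with values in the fixed field. -/
def trE (h : Tri θ q) (x : K) : E := ⟨trc θ x, trc_fixed θ h x⟩

/-- The norm with values in the fixed field. -/
def nE (h : Tri θ q) (x : K) : E := ⟨nrm θ x, nrm_fixed θ h x⟩

variable (h : Tri θ q)
include h

theorem trE_add (x y : K) : trE θ h (x + y) = trE θ h x + trE θ h y :=
  Subtype.ext (by show trc θ (x + y) = trc θ x + trc θ y; simp only [trc, map_add]; ring)

theorem trE_mul (s : E) (x : K) : trE θ h (s * x) = s * trE θ h x :=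
  Subtype.ext (by
    show trc θ ((s : K) * x) = (s : K) * trc θ x
    simp only [trc, map_mul, θE θ s]; ring)

theorem trE_neg (x : K) : trE θ h (-x) = -trE θ h x :=
  Subtype.ext (by show trc θ (-x) = -trc θ x; simp only [trc, map_neg]; ring)

theorem trE_sub (x y : K) : trE θ h (x - y) = trE θ h x - trE θ h y :=
  Subtype.ext (by show trc θ (x - y) = trc θ x - trc θ y; simp only [trc, map_sub]; ring)

theorem trE_zero : trE θ h 0 = 0 :=
  Subtype.ext (by show trc θ (0 : K) = 0; simp [trc])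

theorem trE_θ (x : K) : trE θ h (θ x) = trE θ h x :=
  Subtype.ext (by show trc θ (θ x) = trc θ x; simp only [trc, h.cube]; ring)

theorem exists_trE_ne : ∃ x : K, trE θ h x ≠ 0 := by
  by_contra hcon
  push Not at hcon
  have h0 : ∀ x : K, x + θ x + θ (θ x) = 0 := fun x => congrArg Subtype.val (hcon x)
  obtain ⟨a, ha⟩ := exists_moved θ h
  have h1 : ∀ x : K, (θ a - a) * θ x + (θ (θ a) - a) * θ (θ x) = 0 := fun x => by
    have := h0 (a * x)
    rw [map_mul, map_mul] at this
    linear_combination this - a * h0 x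
  have h2 := h1 1
  simp only [map_one, mul_one] at h2
  have h3 : (θ a - a) * (θ a - θ (θ a)) = 0 := by linear_combination h1 a - θ (θ a) * h2
  rcases mul_eq_zero.1 h3 with h4 | h4
  · exact ha (sub_eq_zero.1 h4)
  · exact ha (θ.injective (sub_eq_zero.1 h4)).symm

theorem trE_nondeg {β : K} (hβ : β ≠ 0) : ∃ x : K, trE θ h (β * x) ≠ 0 := by
  obtain ⟨x, hx⟩ := exists_trE_ne θ h
  exact ⟨β⁻¹ * x, by rwa [mul_inv_cancel_left₀ hβ]⟩

theorem exists_nrm {a : E} (ha : a ≠ 0) : ∃ t : K, t ≠ 0 ∧ nE θ h t = a := by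
  classical
  have hq := h.two_le
  obtain ⟨f, hf_def⟩ : ∃ f : Kˣ →* Kˣ, f = powMonoidHom (q ^ 2 + q + 1) := ⟨_, rfl⟩
  have hcard : Nat.card Kˣ = (q - 1) * (q ^ 2 + q + 1) := by
    rw [Nat.card_units, Nat.card_eq_fintype_card, h.card]
    have h1 : 1 ≤ q := by omega
    have h3 : 1 ≤ q ^ 3 := Nat.one_le_pow _ _ (by omega)
    zify [h1, h3]
    ring
  have hker : Nat.card f.ker = q ^ 2 + q + 1 := by
    rw [hf_def, IsCyclic.card_powMonoidHom_ker, hcard]
    exact Nat.gcd_eq_right (dvd_mul_left _ _)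
  have hrange : Nat.card f.range = q - 1 := by
    have h1 := Subgroup.card_mul_index f.ker
    rw [hker, Subgroup.index_ker, hcard, mul_comm (q - 1)] at h1
    exact Nat.eq_of_mul_eq_mul_left (by positivity) h1
  have hle : f.range ≤ (powMonoidHom (q - 1) : Kˣ →* Kˣ).ker := by
    rintro _ ⟨u, rfl⟩
    rw [MonoidHom.mem_ker, hf_def, powMonoidHom_apply, powMonoidHom_apply, ← pow_mul, mul_comm,
      ← hcard, Nat.card_eq_fintype_card, pow_card_eq_one]
  have heq := Subgroup.eq_of_le_of_card_ge hle (by rw [card_powfix_units h.card, hrange])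
  have ha0 : (a : K) ≠ 0 := fun e => ha (Subtype.ext e)
  have hmem : Units.mk0 (a : K) ha0 ∈ (powMonoidHom (q - 1) : Kˣ →* Kˣ).ker := by
    rw [MonoidHom.mem_ker, powMonoidHom_apply]
    refine Units.ext ?_
    rw [Units.val_pow_eq_pow_val, Units.val_mk0, Units.val_one]
    refine mul_right_cancel₀ ha0 ?_
    rw [← pow_succ, Nat.sub_add_cancel (by omega : 1 ≤ q), one_mul, ← h.pow]
    exact θE θ a
  rw [← heq] at hmem
  obtain ⟨u, hu⟩ := hmem
  refine ⟨(u : K), u.ne_zero, Subtype.ext ?_⟩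
  have hu' := congrArg Units.val hu
  rw [hf_def, powMonoidHom_apply, Units.val_pow_eq_pow_val, Units.val_mk0] at hu'
  show nrm θ (u : K) = (a : K)
  rw [← hu', nrm, h.pow, h.pow, ← pow_mul]
  ring

theorem exists_sq_ne : ∃ t : K, t ≠ 0 ∧ (θ t * θ (θ t)) ^ 2 ≠ 1 := by
  classical
  by_contra hcon
  push Not at hcon
  have h4 : ∀ t : K, t ≠ 0 → t ^ 4 = 1 := by
    intro t ht
    have e1 := hcon t ht
    have e2 := congrArg θ e1
    rw [map_pow, map_mul, h.cube, map_one] at e2
    have e3 := congrArg θ e2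
    rw [map_pow, map_mul, h.cube, map_one] at e3
    have hθt : θ t ≠ 0 := by simpa using ht
    have hθθt : θ (θ t) ≠ 0 := by simpa using ht
    have h5 : t ^ 4 * (θ t * θ (θ t)) ^ 2 = 1 := by
      linear_combination (t * θ t) ^ 2 * e2 + e3
    rw [e1, mul_one] at h5
    exact h5
  have h1 : (Finset.univ.filter fun t : K => t ≠ 0).card ≤ 4 := by
    refine (Finset.card_le_card (t := (Polynomial.X ^ 4 - Polynomial.C (1 : K)).roots.toFinset) ?_).trans ?_
    · intro t ht
      rw [Finset.mem_filter] at ht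
      rw [Multiset.mem_toFinset, Polynomial.mem_roots (Polynomial.X_pow_sub_C_ne_zero (by norm_num) 1)]
      simp [h4 t ht.2]
    · refine (Multiset.toFinset_card_le _).trans ((Polynomial.card_roots' _).trans ?_)
      rw [Polynomial.natDegree_X_pow_sub_C]
  rw [Finset.filter_ne', Finset.card_erase_of_mem (Finset.mem_univ _), Finset.card_univ, h.card] at h1
  have h8 : 2 ^ 3 ≤ q ^ 3 := Nat.pow_le_pow_left h.two_le 3
  omega

omit h
/-- The weights of the radical modulo its centre. -/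
abbrev Wt (q : ℕ) (θ : K →+* K) : Type _ := E₀ q θ × K × K × E₀ q θ

/-- The move by the short root group. -/
def mvA (h : Tri θ q) (t : K) (w : Wt q θ) : Wt q θ :=
  (w.1 - trE θ h (w.2.1 * t) + trE θ h (w.2.2.1 * (θ t * θ (θ t))) - w.2.2.2 * nE θ h t,
    w.2.1 - (θ w.2.2.1 * θ (θ t) + θ (θ w.2.2.1) * θ t) + (w.2.2.2 : K) * (θ t * θ (θ t)),
    w.2.2.1 - (w.2.2.2 : K) * t, w.2.2.2)

/-- The move by the monomial element. -/
def mvN (w : Wt q θ) : Wt q θ := (-w.2.2.2, w.2.2.1, -w.2.1, w.1)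

/-- The move by the coroot of the long simple root. -/
def mvS (s : E₀ q θ) (w : Wt q θ) : Wt q θ :=
  (s * s * w.1, (s : K) * w.2.1, w.2.2.1, s⁻¹ * w.2.2.2)

/-- The move by the coroot of the highest root. -/
def mvZ (s : E₀ q θ) (w : Wt q θ) : Wt q θ :=
  (s * w.1, (s : K) * w.2.1, (s : K) * w.2.2.1, s * w.2.2.2)

/-- The move by the torus of the short orbit. -/
def mvT (h : Tri θ q) (t : K) (w : Wt q θ) : Wt q θ :=
  ((nE θ h t)⁻¹ * w.1, uw θ t * w.2.1, (uw θ t)⁻¹ * w.2.2.1, nE θ h t * w.2.2.2)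

/-- A set of weights closed under the moves. -/
structure Closed (h : Tri θ q) (O : Set (Wt q θ)) : Prop where
  a : ∀ t w, w ∈ O → mvA θ h t w ∈ O
  n : ∀ w, w ∈ O → mvN θ w ∈ O
  s : ∀ s, s ≠ 0 → ∀ w, w ∈ O → mvS θ s w ∈ O
  z : ∀ s, s ≠ 0 → ∀ w, w ∈ O → mvZ θ s w ∈ O
  t : ∀ t, t ≠ 0 → ∀ w, w ∈ O → mvT θ h t w ∈ O

theorem mvA_inj (h : Tri θ q) (t : K) : Function.Injective (mvA θ h t) := by
  rintro ⟨a, b, c, e⟩ ⟨a', b', c', e'⟩ hh
  simp only [mvA, Prod.mk.injEq] at hh
  obtain ⟨h1, h2, h3, rfl⟩ := hh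
  obtain rfl : c = c' := by linear_combination h3
  obtain rfl : b = b' := by linear_combination h2
  obtain rfl : a = a' := by linear_combination h1
  rfl

theorem mvS_inj {s : E₀ q θ} (hs : s ≠ 0) : Function.Injective (mvS θ s) := by
  rintro ⟨a, b, c, e⟩ ⟨a', b', c', e'⟩ hh
  simp only [mvS, Prod.mk.injEq] at hh
  obtain ⟨h1, h2, rfl, h4⟩ := hh
  have hs' : (s : K) ≠ 0 := fun e => hs (Subtype.ext e)
  rw [mul_left_cancel₀ (mul_ne_zero hs hs) h1, mul_left_cancel₀ hs' h2,
    mul_left_cancel₀ (inv_ne_zero hs) h4]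

/-- The parameters of the big part of an orbit. -/
abbrev mvBig (h : Tri θ q) (x : {s : E₀ q θ // s ≠ 0} × K) (u : Wt q θ) : Wt q θ :=
  mvS θ x.1.1 (mvA θ h x.2 u)

include h

theorem mvBig_inj {u u' : Wt q θ} (hu : u.2.2.2 = 1) (hu' : u'.2.2.2 = 1) (hg : u.2.2.1 = 0)
    (hg' : u'.2.2.1 = 0) {x x' : {s : E₀ q θ // s ≠ 0} × K} (e : mvBig θ h x u = mvBig θ h x' u') :
    x = x' ∧ u = u' := by
  have e4 := congrArg (fun w : Wt q θ => w.2.2.2) e
  simp only [mvBig, mvS, mvA, hu, hu', mul_one, inv_inj] at e4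
  have e3 := congrArg (fun w : Wt q θ => w.2.2.1) e
  simp only [mvBig, mvS, mvA, hu, hu', hg, hg'] at e3
  simp only [zero_sub, neg_inj, OneMemClass.coe_one, one_mul] at e3
  have ex : x = x' := Prod.ext (Subtype.ext e4) e3
  subst ex
  exact ⟨rfl, mvA_inj θ h _ (mvS_inj θ x.1.2 e)⟩

theorem card_big : Nat.card ({s : E₀ q θ // s ≠ 0} × K) = (q - 1) * q ^ 3 := by
  rw [Nat.card_prod, Nat.card_eq_fintype_card (α := K), h.card, ← Nat.card_congr unitsEquivNeZero,
    Nat.card_units, card_E θ h]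

theorem normalise {O : Set (Wt q θ)} (hO : Closed θ h O) {w : Wt q θ} (hw : w ∈ O)
    (he : w.2.2.2 ≠ 0) : ∃ u ∈ O, u.2.2.2 = 1 ∧ u.2.2.1 = 0 := by
  refine ⟨_, hO.a w.2.2.1 _ (hO.s _ he _ hw), ?_, ?_⟩
  · simp only [mvA, mvS]; exact inv_mul_cancel₀ he
  · simp only [mvA, mvS, inv_mul_cancel₀ he]
    simp

/-- A non-zero pair of middle coordinates can be moved to a non-zero first coordinate. -/
theorem exists_shift {b c : K} (hbc : b ≠ 0 ∨ c ≠ 0) :
    ∃ t : K, trE θ h (b * t) ≠ trE θ h (c * (θ t * θ (θ t))) := by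
  by_contra hcon
  push Not at hcon
  have hc : c = 0 := by
    have hpol : ∀ t u : K, trE θ h (u * (θ c * θ (θ t) + θ (θ c) * θ t)) = 0 := by
      intro t u
      have e := hcon (t + u)
      have e1 : c * (θ (t + u) * θ (θ (t + u))) = c * (θ t * θ (θ t)) + c * (θ u * θ (θ u)) +
          (c * θ (θ t) * θ u + c * θ t * θ (θ u)) := by simp only [map_add]; ring
      rw [mul_add, trE_add θ h, e1, trE_add θ h, trE_add θ h, hcon t, hcon u, left_eq_add] at e
      have p1 : trE θ h (c * θ t * θ (θ u)) = trE θ h (u * (θ c * θ (θ t))) := by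
        rw [← trE_θ θ h (c * θ t * θ (θ u)), map_mul, map_mul, h.cube]
        congr 1; ring
      have p2 : trE θ h (c * θ (θ t) * θ u) = trE θ h (u * (θ (θ c) * θ t)) := by
        rw [← trE_θ θ h (c * θ (θ t) * θ u), ← trE_θ θ h (θ (c * θ (θ t) * θ u))]
        simp only [map_mul, h.cube]
        congr 1; ring
      rw [trE_add θ h, p1, p2] at e
      rw [mul_add, trE_add θ h, add_comm, e]
    have hvan : ∀ t : K, θ c * θ (θ t) + θ (θ c) * θ t = 0 := by
      intro t
      by_contra hne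
      obtain ⟨u, hu⟩ := trE_nondeg θ h hne
      rw [mul_comm] at hu
      exact hu (hpol t u)
    obtain ⟨a, ha⟩ := exists_moved θ h
    have e1 := hvan 1
    have e2 := hvan a
    simp only [map_one, mul_one] at e1
    have e3 : θ c * (θ (θ a) - θ a) = 0 := by linear_combination e2 - θ a * e1
    rcases mul_eq_zero.1 e3 with h' | h'
    · simpa using h'
    · exact absurd (θ.injective (sub_eq_zero.1 h')) ha
  subst hc
  obtain ⟨x, hx⟩ := trE_nondeg θ h (hbc.resolve_right (not_not.2 rfl))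
  exact hx (by rw [hcon x, zero_mul, trE_zero θ h])

/-- An invariant set with a non-zero weight has many. -/
theorem closed_bound {O : Set (Wt q θ)} (hO : Closed θ h O) {w0 : Wt q θ} (hw0 : w0 ∈ O) (h0 : w0 ≠ 0) :
    ∃ (ι : Type u) (_ : Fintype ι) (f : ι → Wt q θ), Function.Injective f ∧
      (∀ i, f i ∈ O ∧ f i ≠ 0) ∧ (q - 1) * q ^ 3 + (q - 1) ≤ Fintype.card ι := by
  classical
  have hE : Fintype.card {s : E₀ q θ // s ≠ 0} = q - 1 := by
    rw [← Nat.card_eq_fintype_card, ← Nat.card_congr unitsEquivNeZero, Nat.card_units, card_E θ h]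
  have hB : Fintype.card ({s : E₀ q θ // s ≠ 0} × K) = (q - 1) * q ^ 3 := by
    rw [← Nat.card_eq_fintype_card, card_big θ h]
  have hne : ∀ (u : Wt q θ) (_ : u.2.2.2 = 1) (x : {s : E₀ q θ // s ≠ 0} × K),
      (mvBig θ h x u).2.2.2 ≠ 0 := fun u hu x => by
    simp only [mvBig, mvS, mvA, hu, mul_one]
    exact inv_ne_zero x.1.2
  by_cases hA : ∃ w ∈ O, w ≠ 0 ∧ w.2.2.2 = 0
  · obtain ⟨w, hw, hw0, hwe⟩ := hA
    obtain ⟨v, hv, hve⟩ : ∃ v ∈ O, v.2.2.2 ≠ 0 := by
      by_cases ha : w.1 = 0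
      · have hbc : w.2.1 ≠ 0 ∨ w.2.2.1 ≠ 0 := by
          by_contra hc
          push Not at hc
          exact hw0 (Prod.ext ha (Prod.ext hc.1 (Prod.ext hc.2 hwe)))
        obtain ⟨t, ht⟩ := exists_shift θ h hbc
        refine ⟨_, hO.n _ (hO.a t _ hw), ?_⟩
        simp only [mvN, mvA, ha, hwe, zero_mul, sub_zero, zero_sub, neg_add_eq_sub]
        exact sub_ne_zero.2 (Ne.symm ht)
      · exact ⟨_, hO.n _ hw, by simpa [mvN] using ha⟩
    obtain ⟨u, hu, hu1, hu0⟩ := normalise θ h hO hv hve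
    refine ⟨({s : E₀ q θ // s ≠ 0} × K) ⊕ {s : E₀ q θ // s ≠ 0}, inferInstance,
      Sum.elim (fun x => mvBig θ h x u) (fun s => mvZ θ s.1 w), ?_, ?_, ?_⟩
    · rintro (x | s) (x' | s') e <;> simp only [Sum.elim_inl, Sum.elim_inr] at e
      · exact congrArg Sum.inl (mvBig_inj θ h hu1 hu1 hu0 hu0 e).1
      · exact absurd (congrArg (fun z : Wt q θ => z.2.2.2) e ▸ by simp [mvZ, hwe]) (hne u hu1 x)
      · exact absurd (congrArg (fun z : Wt q θ => z.2.2.2) e.symm ▸ by simp [mvZ, hwe]) (hne u hu1 x')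
      · refine congrArg Sum.inr (Subtype.ext ?_)
        by_contra hss
        have hss' : (s.1 : K) ≠ s'.1 := fun e => hss (Subtype.ext e)
        simp only [mvZ, Prod.mk.injEq] at e
        obtain ⟨e1, e2, e3, -⟩ := e
        refine hw0 (Prod.ext ?_ (Prod.ext ?_ (Prod.ext ?_ hwe)))
        · exact (mul_eq_zero.1 (show (s.1 - s'.1) * w.1 = 0 by linear_combination e1)).resolve_left
            (sub_ne_zero.2 hss)
        · exact (mul_eq_zero.1 (show ((s.1 : K) - s'.1) * w.2.1 = 0 by linear_combination e2)).resolve_left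
            (sub_ne_zero.2 hss')
        · exact (mul_eq_zero.1 (show ((s.1 : K) - s'.1) * w.2.2.1 = 0 by linear_combination e3)).resolve_left
            (sub_ne_zero.2 hss')
    · rintro (x | s)
      · exact ⟨hO.s _ x.1.2 _ (hO.a _ _ hu), fun e => hne u hu1 x (congrArg (fun z : Wt q θ => z.2.2.2) e)⟩
      · refine ⟨hO.z _ s.2 _ hw, fun e => hw0 ?_⟩
        have hs : (s.1 : K) ≠ 0 := fun e => s.2 (Subtype.ext e)
        simp only [Sum.elim_inr, mvZ] at e
        refine Prod.ext ?_ (Prod.ext ?_ (Prod.ext ?_ hwe))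
        · exact (mul_eq_zero.1 (congrArg Prod.fst e)).resolve_left s.2
        · exact (mul_eq_zero.1 (congrArg (fun z : Wt q θ => z.2.1) e)).resolve_left hs
        · exact (mul_eq_zero.1 (congrArg (fun z : Wt q θ => z.2.2.1) e)).resolve_left hs
    · rw [Fintype.card_sum, hB, hE]
  · push Not at hA
    obtain ⟨u, hu, hu1, hu0⟩ := normalise θ h hO hw0 (hA w0 hw0 h0)
    by_cases hB' : ∃ u' ∈ O, u'.2.2.2 = 1 ∧ u'.2.2.1 = 0 ∧ u' ≠ u
    · obtain ⟨u', hu', hu1', hu0', hne'⟩ := hB'
      refine ⟨({s : E₀ q θ // s ≠ 0} × K) ⊕ ({s : E₀ q θ // s ≠ 0} × K), inferInstance,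
        Sum.elim (fun x => mvBig θ h x u) (fun x => mvBig θ h x u'), ?_, ?_, ?_⟩
      · rintro (x | x) (x' | x') e <;> simp only [Sum.elim_inl, Sum.elim_inr] at e
        · exact congrArg Sum.inl (mvBig_inj θ h hu1 hu1 hu0 hu0 e).1
        · exact absurd (mvBig_inj θ h hu1 hu1' hu0 hu0' e).2.symm hne'
        · exact absurd (mvBig_inj θ h hu1' hu1 hu0' hu0 e).2 hne'
        · exact congrArg Sum.inr (mvBig_inj θ h hu1' hu1' hu0' hu0' e).1
      · rintro (x | x)
        · exact ⟨hO.s _ x.1.2 _ (hO.a _ _ hu), fun e => hne u hu1 x (congrArg (fun z : Wt q θ => z.2.2.2) e)⟩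
        · exact ⟨hO.s _ x.1.2 _ (hO.a _ _ hu'),
            fun e => hne u' hu1' x (congrArg (fun z : Wt q θ => z.2.2.2) e)⟩
      · rw [Fintype.card_sum, hB]
        have h1 : 1 ≤ q ^ 3 := Nat.one_le_pow _ _ (by have := h.two_le; omega)
        have h2 : q - 1 ≤ (q - 1) * q ^ 3 := Nat.le_mul_of_pos_right _ h1
        omega
    · exfalso
      push Not at hB'
      obtain ⟨t, ht, hsq⟩ := exists_sq_ne θ h
      have hN : nE θ h t ≠ 0 := fun e => by
        have := congrArg Subtype.val e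
        simp [nE, nrm, ht] at this
      have hθt : θ t ≠ 0 := by simpa using ht
      have hθθt : θ (θ t) ≠ 0 := by simpa using ht
      -- the normalised weight is fixed by the normalised torus moves
      have e := hB' _ (hO.z _ (inv_ne_zero hN) _ (hO.t t ht _ hu))
        (by simp only [mvZ, mvT, hu1, mul_one]; exact inv_mul_cancel₀ hN)
        (by simp [mvZ, mvT, hu0])
      have e2 := congrArg (fun z : Wt q θ => z.2.1) e
      simp only [mvZ, mvT, Subfield.coe_inv, nE, nrm, uw] at e2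
      have hb : u.2.1 = 0 := by
        field_simp at e2
        by_contra hb
        refine hsq ?_
        have e3 : (1 - (θ t * θ (θ t)) ^ 2) * u.2.1 = 0 := by linear_combination e2
        exact (sub_eq_zero.1 ((mul_eq_zero.1 e3).resolve_right hb)).symm
      have ha : u.1 ≠ 0 := by
        intro ha
        have hn := hO.n _ hu
        refine hA _ hn (fun e => ?_) (by simp [mvN, ha])
        have := congrArg Prod.fst e
        simp [mvN, hu1] at this
      obtain ⟨r, -, hr⟩ := exists_nrm θ h ha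
      have hm := hO.n _ (hO.a r _ hu)
      refine hA _ hm (fun e => ?_) ?_
      · have := congrArg Prod.fst e
        simp [mvN, mvA, hu1] at this
      · simp only [mvN, mvA, hb, hu0, hu1, zero_mul, trE_zero θ h, sub_zero, add_zero, one_mul, hr, sub_self]

end Cfsg.Agent.SimpleFacts.MinDegTriality
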