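import Cfsg.Agent.SimpleFacts.MinDegTriality.Central
import Cfsg.Agent.Lib.Characters.Integrality

/-!
The vectors fixed by the highest root group: some element of the radical acts on them non-trivially,
so a non-zero weight occurs.
-/

set_option autoImplicit false
set_option linter.unusedSectionVars false
set_option linter.unusedSimpArgs false

namespace Cfsg.Agent.SimpleFacts.MinDegTriality

open Cfsg.Lie Cfsg.Agent.Chevalley Cfsg.Agent.Chevalley.Group Cfsg.Agent.Chevalley.Borel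
  Cfsg.Agent.Chevalley.Weyl Cfsg.Agent.Chevalley.Twist Cfsg.Agent.Chevalley.Twist.D4
  Cfsg.Agent.SimpleFacts.TrialitySubfield

attribute [local irreducible] P eA eC eD eN xg

variable {K : Type*} [Field K] [Fintype K] {q : ℕ} {θ : K →+* K} {hK : Fintype.card K = q ^ 3}
  (h : Tri θ q) (X : Setup (K := K) hK)

/-- A subgroup containing the short root elements, the long simple root elements and both monomial
elements is everything. -/
theorem gens_top (H : Subgroup (twistedD4 K q)) (hA : ∀ t, gA X h t ∈ H)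
    (h14 : ∀ s, g14 X h s ∈ H) (ha : gna X ∈ H) (hb : gnb X ∈ H) : H = ⊤ := by
  have hle : twistedD4 K q ≤ H.map (twistedD4 K q).subtype := by
    conv_lhs => rw [twistedD4, genSubgroup_eq hC]
    rw [Subgroup.closure_le]
    rintro x ⟨w, hw, rfl⟩
    rcases hw with ⟨t, ht, r, hr, rfl⟩ | ⟨t, rs, hrs, rfl⟩
    · have hfix : θ t = t := by rw [h.pow, ht]
      simp only [List.mem_cons, List.not_mem_nil, or_false] at hr
      rcases hr with rfl | rfl
      · exact ⟨g14 X h ⟨t, hfix⟩, h14 _, by simp [wordGL, g14, d4p2]⟩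
      · obtain ⟨-, -, b9, he⟩ := wb_more
        have hfix' : θ ((etaW [1] 14 : K) * t) = (etaW [1] 14 : K) * t := by
          rw [map_mul, (cast_sign θ he).2, hfix]
        refine ⟨gnb X * g14 X h ⟨_, hfix'⟩ * (gnb X)⁻¹, mul_mem (mul_mem hb (h14 _)) (inv_mem hb), ?_⟩
        simp only [wordGL, d4m2, List.map_cons, List.map_nil, List.prod_cons, List.prod_nil, mul_one]
        rw [xg_of_conj hLb (by decide) b9 he t]
        rfl
    · simp only [List.mem_cons, List.not_mem_nil, or_false] at hrs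
      rcases hrs with rfl | rfl
      · refine ⟨gA X h t, hA t, ?_⟩
        show eA θ t = _
        simp only [eA, wordGL, List.map_cons, List.map_nil, List.prod_cons, List.prod_nil, mul_one,
          mul_assoc, h.pow, ← pow_mul, sq, d4p1, d4p3, d4p4]
      · refine ⟨gna X * gA X h (-t) * (gna X)⁻¹, mul_mem (mul_mem ha (hA _)) (inv_mem ha), ?_⟩
        show nL hC K [3, 2, 0] * eA θ (-t) * (nL hC K [3, 2, 0])⁻¹ = _
        rw [na_conj_A, neg_neg]
        simp only [eN, wordGL, List.map_cons, List.map_nil, List.prod_cons, List.prod_nil, mul_one,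
          mul_assoc, h.pow, ← pow_mul, sq, d4m1, d4m3, d4m4]
  refine eq_top_iff.2 fun g _ => ?_
  obtain ⟨g', hg', e⟩ := hle g.2
  exact (Subtype.ext e : g' = g) ▸ hg'

/-- The root elements of the radical. -/
noncomputable def gq (X : Setup (K := K) hK) (h : Tri θ q) :
    (E₀ q θ ⊕ K) ⊕ (K ⊕ E₀ q θ) → twistedD4 K q :=
  Sum.elim (Sum.elim (g14 X h) (gC X h)) (Sum.elim (gD X h) (g22 X h))

theorem gq_comm23 (i : (E₀ q θ ⊕ K) ⊕ (K ⊕ E₀ q θ)) (r : E₀ q θ) :
    Commute (gq X h i) (g23 X h r) := by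
  obtain ⟨m14, mC, mD, m22, -⟩ := mem_U_gens h X
  rcases i with (s | c) | (d | e)
  exacts [comm_23_U h X (m14 s) r, comm_23_U h X (mC c) r, comm_23_U h X (mD d) r,
    comm_23_U h X (m22 e) r]

/-- The radical is abelian modulo the highest root group. -/
theorem gq_swap (i j : (E₀ q θ ⊕ K) ⊕ (K ⊕ E₀ q θ)) :
    ∃ r, gq X h i * gq X h j = g23 X h r * (gq X h j * gq X h i) := by
  have com : ∀ {x y : twistedD4 K q}, Commute x y → ∃ r, x * y = g23 X h r * (y * x) :=
    fun e => ⟨0, by rw [g23_zero, one_mul, e.eq]⟩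
  have symm : ∀ {x y : twistedD4 K q}, (∃ r, x * y = g23 X h r * (y * x)) →
      ∃ r, y * x = g23 X h r * (x * y) := by
    rintro x y ⟨r, e⟩
    exact ⟨-r, by rw [e, ← mul_assoc, ← g23_add, neg_add_cancel, g23_zero, one_mul]⟩
  have hBE : ∀ s e, ∃ r, g14 X h s * g22 X h e = g23 X h r * (g22 X h e * g14 X h s) :=
    fun s e => ⟨_, by rw [g14_g22, mul_assoc]⟩
  have hCD : ∀ c d, ∃ r, gC X h c * gD X h d = g23 X h r * (gD X h d * gC X h c) :=
    fun c d => ⟨_, by rw [gC_gD, mul_assoc]⟩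
  rcases i with (a | a) | (a | a) <;> rcases j with (b | b) | (b | b) <;>
    simp only [gq, Sum.elim_inl, Sum.elim_inr]
  · exact com (by rw [Commute, SemiconjBy, ← g14_add, ← g14_add, add_comm])
  · exact com (comm_14_C h X a b)
  · exact com (comm_14_D h X a b)
  · exact hBE a b
  · exact com (comm_14_C h X b a).symm
  · exact com (by rw [Commute, SemiconjBy, ← gC_add, ← gC_add, add_comm])
  · exact hCD a b
  · exact com (comm_22_C h X b a).symm
  · exact com (comm_14_D h X b a).symm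
  · exact symm (hCD b a)
  · exact com (by rw [Commute, SemiconjBy, ← gD_add, ← gD_add, add_comm])
  · exact com (comm_22_D h X b a).symm
  · exact symm (hBE b a)
  · exact com (comm_22_C h X a b)
  · exact com (comm_22_D h X a b)
  · exact com (by rw [Commute, SemiconjBy, ← g22_add, ← g22_add, add_comm])

variable {V : Type*} [AddCommGroup V] [Module ℂ V] (ρ : Representation ℂ (twistedD4 K q) V)
  {ψ : AddChar (E₀ q θ) ℂ}

theorem gq_fix (i : (E₀ q θ ⊕ K) ⊕ (K ⊕ E₀ q θ)) {v : V} (hv : v ∈ fixR X h ρ) :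
    ρ (gq X h i) v ∈ fixR X h ρ :=
  fixR_map h X ρ (fun r => ⟨r, by rw [mul_assoc, ← (gq_comm23 h X i r).eq, inv_mul_cancel_left]⟩) hv

theorem gq_apply_comm (i j : (E₀ q θ ⊕ K) ⊕ (K ⊕ E₀ q θ)) {v : V} (hv : v ∈ fixR X h ρ) :
    ρ (gq X h i) (ρ (gq X h j) v) = ρ (gq X h j) (ρ (gq X h i) v) := by
  obtain ⟨r, e⟩ := gq_swap h X i j
  rw [← Module.End.mul_apply, ← map_mul, e, map_mul, map_mul, Module.End.mul_apply,
    Module.End.mul_apply]
  exact (mem_fixR h X ρ).1 (gq_fix h X ρ j (gq_fix h X ρ i hv)) r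

/-- The elements keeping a subspace invariant, in a finite group. -/
def keep {G : Type*} [Group G] [Finite G] (σ : Representation ℂ G V) (W : Submodule ℂ V) :
    Subgroup G where
  carrier := {g | ∀ v ∈ W, σ g v ∈ W}
  one_mem' := fun v hv => by rwa [map_one, Module.End.one_apply]
  mul_mem' := fun {a b} ha hb v hv => by
    rw [map_mul, Module.End.mul_apply]
    exact ha _ (hb v hv)
  inv_mem' := fun {g} hg => by
    have hp : ∀ n : ℕ, ∀ v ∈ W, σ (g ^ n) v ∈ W := by
      intro n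
      induction n with
      | zero => intro v hv; rwa [pow_zero, map_one, Module.End.one_apply]
      | succ n ih =>
        intro v hv
        rw [pow_succ, map_mul, Module.End.mul_apply]
        exact ih _ (hg v hv)
    have e : g⁻¹ = g ^ (orderOf g - 1) := inv_eq_of_mul_eq_one_left
      (by rw [← pow_succ, Nat.sub_add_cancel (orderOf_pos g), pow_orderOf_eq_one])
    rw [e]
    exact hp _

/-- Some element of the radical moves a vector fixed by the highest root group. -/
theorem exists_moved_fixR [FiniteDimensional ℂ V] (hirr : ρ.IsIrreducible) (hq : IsPrimePow q)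
    (hψ : ψ ≠ 1) (hne : ρ (g23 X h 1) ≠ 1) : ∃ i, ∃ v ∈ fixR X h ρ, ρ (gq X h i) v ≠ v := by
  by_contra hcon
  push Not at hcon
  obtain ⟨H, hH⟩ : ∃ H : Subgroup (twistedD4 K q), H = keep ρ (fixR X h ρ) := ⟨_, rfl⟩
  have htop : H = ⊤ := by
    refine gens_top h X H (fun t => ?_) (fun s => ?_) ?_ ?_ <;> subst hH <;> intro v hv
    · refine fixR_map h X ρ (fun r => ⟨r, ?_⟩) hv
      rw [mul_assoc, ← (comm_23_U h X (eA_mem_U θ t) r : Commute (gA X h t) _).eq,
        inv_mul_cancel_left]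
    · exact gq_fix h X ρ (Sum.inl (Sum.inl s)) hv
    · refine fixR_map h X ρ (fun r => ?_) hv
      have hn := norm23 h X hq (n := (gna X)⁻¹) (fun x => ?_) r
      · simpa only [inv_inv] using hn
      · refine ⟨(etaW [3, 2, 0] 23 : K) * x, ?_⟩
        have e := nL_conj_eta (K := K) hLa (lt24 (r := 23) (by decide)) ((etaW [3, 2, 0] 23 : K) * x)
        rw [na23_ok, ← mul_assoc, (cast_sign θ na23_sign).1, one_mul] at e
        show (nL hC K [3, 2, 0])⁻¹ * _ * (nL hC K [3, 2, 0])⁻¹⁻¹ = _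
        rw [← e]
        group
    · rw [mem_fixR]
      intro r
      have e : (gnb X)⁻¹ * g23 X h r * gnb X = g22 X h r := Subtype.ext (by
        show (nL hC K [1])⁻¹ * xg hC 23 (r : K) * nL hC K [1] = xg hC 22 (r : K)
        rw [← nb_conj_22]
        group)
      have h1 := apply_moved ρ (g := gnb X) (x := g23 X h r) (v := v) (c := (1 : ℂ)) (by
        rw [e, one_smul]; exact hcon (Sum.inr (Sum.inr r)) v hv)
      rwa [one_smul] at h1
  subst hH
  have hW : fixR X h ρ = ⊤ := (((Cfsg.Agent.Characters.isIrreducible_iff ρ).1 hirr).2 _ fun g v hv =>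
    (show g ∈ keep ρ (fixR X h ρ) from htop ▸ Subgroup.mem_top g) v hv).resolve_left
      (fixR_ne_bot h X ρ hψ hq hne)
  exact hne (LinearMap.ext fun v => (mem_fixR h X ρ).1 (hW ▸ Submodule.mem_top) 1)

/-- A non-zero weight occurs. -/
theorem exists_wt [FiniteDimensional ℂ V] (hirr : ρ.IsIrreducible) (hq : IsPrimePow q) (hψ : ψ ≠ 1)
    (hne : ρ (g23 X h 1) ≠ 1) : ∃ w ∈ WtSet h X ρ ψ, w ≠ 0 := by
  obtain ⟨i, v, hv, hiv⟩ := exists_moved_fixR h X ρ hirr hq hψ hne
  obtain ⟨U, hU⟩ : ∃ U : Submodule ℂ V,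
      U = (fixR X h ρ).map (ρ (gq X h i) - 1 : Module.End ℂ V) := ⟨_, rfl⟩
  have hU0 : U ≠ ⊥ := by
    intro hbot
    refine hiv (sub_eq_zero.1 ((Submodule.eq_bot_iff _).1 hbot _ ?_))
    rw [hU]
    exact ⟨v, hv, rfl⟩
  have hle : ∀ u ∈ U, u ∈ fixR X h ρ := by
    rw [hU]
    rintro _ ⟨z, hz, rfl⟩
    exact Submodule.sub_mem _ (gq_fix h X ρ i hz) hz
  have hinv : ∀ j, ∀ u ∈ U, ρ (gq X h j) u ∈ U := by
    rw [hU]
    rintro j _ ⟨z, hz, rfl⟩
    refine ⟨ρ (gq X h j) z, gq_fix h X ρ j hz, ?_⟩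
    simp only [LinearMap.sub_apply, Module.End.one_apply, map_sub]
    rw [gq_apply_comm h X ρ i j hz]
  obtain ⟨u, hu, hu0, hμ⟩ := exists_common_eigen (fun j => ρ (gq X h j)) U hU0 hinv
    (fun j k u hu => gq_apply_comm h X ρ j k (hle u hu))
  obtain ⟨χ1, h1⟩ := exists_addChar ρ (g14 X h) (g14_zero h X) (g14_add h X) hu0
    (fun s => hμ (Sum.inl (Sum.inl s)))
  obtain ⟨χ2, h2⟩ := exists_addChar ρ (gC X h) (gC_zero h X) (gC_add h X) hu0
    (fun s => hμ (Sum.inl (Sum.inr s)))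
  obtain ⟨χ3, h3⟩ := exists_addChar ρ (gD X h) (gD_zero h X) (gD_add h X) hu0
    (fun s => hμ (Sum.inr (Sum.inl s)))
  obtain ⟨χ4, h4⟩ := exists_addChar ρ (g22 X h) (g22_zero h X) (g22_add h X) hu0
    (fun s => hμ (Sum.inr (Sum.inr s)))
  obtain ⟨a, ha⟩ := exists_mul_rep hψ χ1
  obtain ⟨b, hb⟩ := exists_tr_rep hψ h χ2
  obtain ⟨c, hc⟩ := exists_tr_rep hψ h χ3
  obtain ⟨e, he⟩ := exists_mul_rep hψ χ4
  refine ⟨(a, b, c, e), ⟨u, hu0, hle u hu, fun s => by rw [h1, ha], fun s => by rw [h2, hb],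
    fun s => by rw [h3, hc], fun s => by rw [h4, he]⟩, fun h0 => hu0 ?_⟩
  simp only [Prod.mk_eq_zero] at h0
  obtain ⟨rfl, rfl, rfl, rfl⟩ := h0
  rw [hU] at hu
  obtain ⟨z, -, hz⟩ := hu
  refine eq_zero_of_fixed_image ρ (g := gq X h i) (z := z) hz ?_
  rcases i with (s | s) | (s | s) <;> simp only [gq, Sum.elim_inl, Sum.elim_inr]
  · rw [h1, ha, zero_mul, AddChar.map_zero_eq_one, one_smul]
  · rw [h2, hb, zero_mul, trE_zero θ h, AddChar.map_zero_eq_one, one_smul]
  · rw [h3, hc, zero_mul, trE_zero θ h, AddChar.map_zero_eq_one, one_smul]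
  · rw [h4, he, zero_mul, AddChar.map_zero_eq_one, one_smul]

end Cfsg.Agent.SimpleFacts.MinDegTriality
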