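import Cfsg.Agent.SimpleFacts.MinDegTriality.Weights

/-!
The weights occurring in a representation of a triality group form a set closed under the moves.
-/

set_option autoImplicit false
set_option linter.unusedSectionVars false
set_option linter.unusedSimpArgs false

namespace Cfsg.Agent.SimpleFacts.MinDegTriality

open Cfsg.Lie Cfsg.Agent.Chevalley Cfsg.Agent.Chevalley.Group Cfsg.Agent.Chevalley.Borel
  Cfsg.Agent.Chevalley.Weyl Cfsg.Agent.Chevalley.Twist Cfsg.Agent.Chevalley.Twist.D4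
  Cfsg.Agent.SimpleFacts.TrialitySubfield

attribute [local irreducible] P eA eC eD eN xg

theorem na23_ok : wL chevD4 [3, 2, 0] 23 = 23 := by decide +kernel

theorem na23_sign : etaW [3, 2, 0] 23 = 1 ∨ etaW [3, 2, 0] 23 = -1 := by decide +kernel

variable {K : Type*} [Field K] [Fintype K] {q : ℕ} {θ : K →+* K} {hK : Fintype.card K = q ^ 3}
  (h : Tri θ q) (X : Setup (K := K) hK)

local notation "Xr" => xg (F := K) hC

/-- The monomial element in the group. -/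
noncomputable def gna (X : Setup (K := K) hK) : twistedD4 K q := ⟨nL hC K [3, 2, 0], na_mem X⟩

/-- The other monomial element in the group. -/
noncomputable def gnb (X : Setup (K := K) hK) : twistedD4 K q := ⟨nL hC K [1], nb_mem X⟩

/-- The short root elements in the group. -/
noncomputable def gA (_X : Setup (K := K) hK) (h : Tri θ q) (t : K) : twistedD4 K q :=
  ⟨eA θ t, eA_mem θ h.pow t⟩

theorem eA_inv (t : K) : (eA θ t)⁻¹ = eA θ (-t) :=
  inv_eq_of_mul_eq_one_right (by rw [eA_add, add_neg_cancel, eA_zero])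

theorem hg_conj23 {r0 : ℕ} (hr : r0 < 24) {u : K} (hu : u ≠ 0) (x : K) :
    ∃ z, hg hC r0 u * Xr 23 x * (hg hC r0 u)⁻¹ = Xr 23 z := by
  obtain ⟨v, rfl⟩ : ∃ v : Kˣ, (v : K) = u := ⟨Units.mk0 u hu, rfl⟩
  exact ⟨_, by rw [hg_eq_tor hC (lt24 hr), tor_conj_x hC _ _ _ (lt24 (by decide))]⟩

/-- An element moving the highest root group into itself over the big field normalises it. -/
theorem norm23 (hq : IsPrimePow q) {n : twistedD4 K q}
    (hn : ∀ x : K, ∃ z, (n : GL chevD4.Idx K) * Xr 23 x * (n : GL chevD4.Idx K)⁻¹ = Xr 23 z) :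
    ∀ r, ∃ r', n * g23 X h r * n⁻¹ = g23 X h r' := by
  intro r
  obtain ⟨z, hz⟩ := hn r
  have hmem : Xr 23 z ∈ twistedD4 K q := by
    rw [← hz]; exact conj_mem n.2 (g23 X h r).2
  exact ⟨⟨z, long_param X θ h.pow hq 23 (by simp) hmem⟩, Subtype.ext hz⟩

theorem gna_conj23 (hq : IsPrimePow q) : ∀ r, ∃ r', gna X * g23 X h r * (gna X)⁻¹ = g23 X h r' :=
  norm23 h X hq fun x => ⟨_, by rw [gna, nL_conj_eta hLa (lt24 (by decide)), na23_ok]⟩

theorem gA_conj23 (t : K) (r : E₀ q θ) : gA X h t * g23 X h r * (gA X h t)⁻¹ = g23 X h r := by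
  rw [(comm_23_U h X (eA_mem_U θ t) r : Commute (gA X h t) _).eq, mul_inv_cancel_right]

variable {V : Type*} [AddCommGroup V] [Module ℂ V] (ρ : Representation ℂ (twistedD4 K q) V)
  {ψ : AddChar (E₀ q θ) ℂ}

theorem moved {n x : twistedD4 K q} {v : V} {c : ℂ} (hc : ρ (n * x * n⁻¹) v = c • v) :
    ρ x (ρ n⁻¹ v) = c • ρ n⁻¹ v :=
  apply_moved ρ (by rwa [inv_inv])

theorem fix_moved {n : twistedD4 K q} (h23 : ∀ r, ∃ r', n * g23 X h r * n⁻¹ = g23 X h r') {v : V}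
    (hv : v ∈ fixR X h ρ) : ρ n⁻¹ v ∈ fixR X h ρ :=
  fixR_map h X ρ (fun r => by simpa only [inv_inv] using h23 r) hv

theorem mem_WtSet {n : twistedD4 K q} {v : V} {w' : Wt q θ} (hv0 : v ≠ 0) (hv : v ∈ fixR X h ρ)
    (h23 : ∀ r, ∃ r', n * g23 X h r * n⁻¹ = g23 X h r')
    (h14 : ∀ s, ρ (n * g14 X h s * n⁻¹) v = ψ (w'.1 * s) • v)
    (hC' : ∀ c, ρ (n * gC X h c * n⁻¹) v = ψ (trE θ h (w'.2.1 * c)) • v)
    (hD : ∀ d, ρ (n * gD X h d * n⁻¹) v = ψ (trE θ h (w'.2.2.1 * d)) • v)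
    (h22 : ∀ s, ρ (n * g22 X h s * n⁻¹) v = ψ (w'.2.2.2 * s) • v) : w' ∈ WtSet h X ρ ψ :=
  ⟨_, apply_ne ρ n⁻¹ hv0, fix_moved h X ρ h23 hv, fun s => moved ρ (h14 s), fun c => moved ρ (hC' c),
    fun d => moved ρ (hD d), fun s => moved ρ (h22 s)⟩

theorem conj_eigen {n x y : twistedD4 K q} {v : V} {c d : ℂ} (hy : ρ y v = d • v)
    (e : (n : GL chevD4.Idx K) * (x : GL chevD4.Idx K) * (n : GL chevD4.Idx K)⁻¹ = y) (hcd : d = c) :
    ρ (n * x * n⁻¹) v = c • v := by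
  rw [show n * x * n⁻¹ = y from Subtype.ext e, hy, hcd]

theorem fix_apply {v : V} (hv : v ∈ fixR X h ρ) (r : E₀ q θ) : ρ (g23 X h r) v = (1 : ℂ) • v := by
  rw [one_smul]; exact (mem_fixR h X ρ).1 hv r

theorem closed_a {w : Wt q θ} (hw : w ∈ WtSet h X ρ ψ) (t : K) : mvA θ h t w ∈ WtSet h X ρ ψ := by
  obtain ⟨v, hv0, hv⟩ := hw
  refine mem_WtSet h X ρ (n := gA X h t) hv0 hv.fix (fun r => ⟨r, gA_conj23 h X t r⟩) ?_ ?_ ?_ ?_
  · intro s
    have e : gA X h t * g14 X h s * (gA X h t)⁻¹ = g22 X h (-(s * nE θ h t)) *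
        g23 X h (nE θ h t * s ^ 2) * gD X h ((s : K) * (θ t * θ (θ t))) *
        gC X h (-((s : K) * t)) * g14 X h s := Subtype.ext (by
      show eA θ t * Xr 14 (s : K) * (eA θ t)⁻¹ = _
      rw [eA_inv, eA_conj_B θ h.cube]
      simp [g22, g23, gD, gC, g14, nE, eC, eD, θE θ s, h.cube])
    rw [e, apply_mul_of ρ (apply_mul_of ρ (apply_mul_of ρ (apply_mul_of ρ (hv.e22 _)
      (fix_apply h X ρ hv.fix _)) (hv.eD _)) (hv.eC _)) (hv.e14 _), mul_one]
    simp only [← AddChar.map_add_eq_mul, mul_neg, trE_neg θ h, mul_left_comm (w.2.1) (s : K),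
      mul_left_comm (w.2.2.1) (s : K), trE_mul θ h]
    congr 2
    simp only [mvA]
    ring
  · intro c
    have e : gA X h t * gC X h c * (gA X h t)⁻¹ = g22 X h (trE θ h (c * θ t * θ (θ t))) *
        g23 X h (trE θ h (t * θ c * θ (θ c))) * gD X h (-(θ t * θ (θ c) + θ (θ t) * θ c)) *
        gC X h c := Subtype.ext (by
      show eA θ t * eC θ c * (eA θ t)⁻¹ = _
      rw [eA_inv, eA_conj_C θ h.cube]
      rfl)
    rw [e, apply_mul_of ρ (apply_mul_of ρ (apply_mul_of ρ (hv.e22 _)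
      (fix_apply h X ρ hv.fix _)) (hv.eD _)) (hv.eC _), mul_one]
    simp only [← AddChar.map_add_eq_mul]
    congr 2
    have p1 : trE θ h (w.2.2.1 * (θ t * θ (θ c))) = trE θ h (c * (θ w.2.2.1 * θ (θ t))) := by
      rw [← trE_θ θ h (w.2.2.1 * (θ t * θ (θ c))), map_mul, map_mul, h.cube]
      congr 1; ring
    have p2 : trE θ h (w.2.2.1 * (θ (θ t) * θ c)) = trE θ h (c * (θ (θ w.2.2.1) * θ t)) := by
      rw [← trE_θ θ h (w.2.2.1 * _), ← trE_θ θ h (θ (w.2.2.1 * _))]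
      simp only [map_mul, h.cube]
      congr 1; ring
    simp only [mvA, mul_neg, trE_neg θ h, mul_add, trE_add θ h, p1, p2, ← trE_mul θ h, add_mul,
      sub_mul, trE_sub θ h]
    ring_nf
  · intro d
    have e : gA X h t * gD X h d * (gA X h t)⁻¹ = g22 X h (-trE θ h (t * d)) * gD X h d :=
      Subtype.ext (by
        show eA θ t * eD θ d * (eA θ t)⁻¹ = _
        rw [eA_inv, eA_conj_D]
        rfl)
    rw [e, apply_mul_of ρ (hv.e22 _) (hv.eD _), ← AddChar.map_add_eq_mul]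
    congr 2
    simp only [mvA, mul_neg, ← trE_mul θ h, sub_mul, trE_sub θ h]
    ring_nf
  · intro s
    have e : gA X h t * g22 X h s * (gA X h t)⁻¹ = g22 X h s := Subtype.ext (by
      show eA θ t * Xr 22 (s : K) * (eA θ t)⁻¹ = Xr 22 (s : K)
      rw [← E_comm_A, mul_inv_cancel_right])
    rw [e, hv.e22]
    rfl

theorem closed_n (hq : IsPrimePow q) {w : Wt q θ} (hw : w ∈ WtSet h X ρ ψ) :
    mvN θ w ∈ WtSet h X ρ ψ := by
  obtain ⟨v, hv0, hv⟩ := hw
  refine mem_WtSet h X ρ (n := gna X) hv0 hv.fix (gna_conj23 h X hq) ?_ ?_ ?_ ?_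
  · intro s
    have e : gna X * g14 X h s * (gna X)⁻¹ = g22 X h (-s) := Subtype.ext (na_conj_14 (s : K))
    rw [e, hv.e22]
    simp only [mvN, mul_neg, neg_mul]
  · intro c
    have e : gna X * gC X h c * (gna X)⁻¹ = gD X h c := Subtype.ext (na_conj_C θ c)
    rw [e, hv.eD]
    rfl
  · intro d
    have e : gna X * gD X h d * (gna X)⁻¹ = gC X h (-d) := Subtype.ext (na_conj_D θ d)
    rw [e, hv.eC]
    simp only [mvN, mul_neg, neg_mul]
  · intro s
    have e : gna X * g22 X h s * (gna X)⁻¹ = g14 X h s := Subtype.ext (na_conj_22 (s : K))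
    rw [e, hv.e14]
    rfl

theorem ne_coe {s : E₀ q θ} (hs : s ≠ 0) : (s : K) ≠ 0 := fun e => hs (Subtype.ext e)

theorem closed_s (hq : IsPrimePow q) {s : E₀ q θ} (hs : s ≠ 0) {w : Wt q θ}
    (hw : w ∈ WtSet h X ρ ψ) : mvS θ s w ∈ WtSet h X ρ ψ := by
  obtain ⟨v, hv0, hv⟩ := hw
  have hs' := ne_coe hs
  have hfix := θE θ s
  refine mem_WtSet h X ρ (n := ⟨hg hC 14 (s : K), hg14_mem θ h.pow hfix⟩) hv0 hv.fix
    (norm23 h X hq fun x => hg_conj23 (by decide) hs' x) ?_ ?_ ?_ ?_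
  · intro a
    refine conj_eigen ρ (hv.e14 (s * s * a)) ((hg14_conj (r := 14) (n := 2) (by simp)
      (by decide) hs' (a : K)).trans (by rw [zpow_two]; rfl)) ?_
    congr 1
    simp only [mvS]
    ring
  · intro c
    refine conj_eigen ρ (hv.eC ((s : K) * c)) (hg14_conj_C θ hs' hfix c) ?_
    congr 2
    simp only [mvS]
    ring
  · intro d
    exact conj_eigen ρ (hv.eD d) (hg14_conj_D θ hs' d) rfl
  · intro a
    refine conj_eigen ρ (hv.e22 (s⁻¹ * a)) ((hg14_conj (r := 22) (n := -1) (by simp)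
      (by decide) hs' (a : K)).trans (by rw [zpow_neg_one]; rfl)) ?_
    congr 1
    simp only [mvS]
    ring

theorem closed_z (hq : IsPrimePow q) {s : E₀ q θ} (hs : s ≠ 0) {w : Wt q θ}
    (hw : w ∈ WtSet h X ρ ψ) : mvZ θ s w ∈ WtSet h X ρ ψ := by
  obtain ⟨v, hv0, hv⟩ := hw
  have hs' := ne_coe hs
  have hfix := θE θ s
  refine mem_WtSet h X ρ (n := ⟨hg hC 23 (s : K), hg23_mem θ X h.pow hfix⟩) hv0 hv.fix
    (norm23 h X hq fun x => hg_conj23 (by decide) hs' x) ?_ ?_ ?_ ?_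
  · intro a
    refine conj_eigen ρ (hv.e14 (s * a)) (hg23_conj (r := 14) (by simp) (by decide) hs' (a : K)) ?_
    congr 1
    simp only [mvZ]
    ring
  · intro c
    refine conj_eigen ρ (hv.eC ((s : K) * c)) (hg23_conj_C θ hs' hfix c) ?_
    congr 2
    simp only [mvZ]
    ring
  · intro d
    refine conj_eigen ρ (hv.eD ((s : K) * d)) (hg23_conj_D θ hs' hfix d) ?_
    congr 2
    simp only [mvZ]
    ring
  · intro a
    refine conj_eigen ρ (hv.e22 (s * a)) (hg23_conj (r := 22) (by simp) (by decide) hs' (a : K)) ?_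
    congr 1
    simp only [mvZ]
    ring

theorem closed_t (hq : IsPrimePow q) {t : K} (ht : t ≠ 0) {w : Wt q θ}
    (hw : w ∈ WtSet h X ρ ψ) : mvT θ h t w ∈ WtSet h X ρ ψ := by
  obtain ⟨v, hv0, hv⟩ := hw
  have hθt : θ t ≠ 0 := by simpa using ht
  have hθθt : θ (θ t) ≠ 0 := by simpa using ht
  refine mem_WtSet h X ρ (n := ⟨hT θ t, hT_mem θ X h.pow ht⟩) hv0 hv.fix
    (norm23 h X hq fun x => ?_) ?_ ?_ ?_ ?_
  · obtain ⟨z1, h1⟩ := hg_conj23 (r0 := 12) (by decide) hθθt x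
    obtain ⟨z2, h2⟩ := hg_conj23 (r0 := 13) (by decide) hθt z1
    obtain ⟨z3, h3⟩ := hg_conj23 (r0 := 18) (by decide) ht z2
    refine ⟨z3, ?_⟩
    rw [← h3, ← h2, ← h1]
    show hT θ t * Xr 23 x * (hT θ t)⁻¹ = _
    rw [hT]
    group
  · intro a
    refine conj_eigen ρ (hv.e14 ((nE θ h t)⁻¹ * a)) (hT_conj_14 θ ht (a : K)) ?_
    congr 1
    simp only [mvT]
    ring
  · intro c
    refine conj_eigen ρ (hv.eC (uw θ t * c)) (hT_conj_C θ h.cube ht c) ?_
    congr 2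
    simp only [mvT]
    ring
  · intro d
    refine conj_eigen ρ (hv.eD ((uw θ t)⁻¹ * d)) (hT_conj_D θ h.cube ht d) ?_
    congr 2
    simp only [mvT]
    ring
  · intro a
    refine conj_eigen ρ (hv.e22 (nE θ h t * a)) (hT_conj_22 θ ht (a : K)) ?_
    congr 1
    simp only [mvT]
    ring

/-- The weights which occur are closed under all moves. -/
theorem closed_wtSet (hq : IsPrimePow q) : Closed θ h (WtSet h X ρ ψ) where
  a t _ hw := closed_a h X ρ hw t
  n _ hw := closed_n h X ρ hq hw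
  s _ hs _ hw := closed_s h X ρ hq hs hw
  z _ hs _ hw := closed_z h X ρ hq hs hw
  t _ ht _ hw := closed_t h X ρ hq ht hw

end Cfsg.Agent.SimpleFacts.MinDegTriality
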