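import Cfsg.Agent.SimpleFacts.TrialitySubfield.Twisted
import Cfsg.Agent.Lib.Chevalley.Twist.CountD4

/-!
Elements of the triality twisted group moving the radical of the parabolic subgroup of the highest root:
the torus elements and the monomial element, with their effect on the root elements.
-/

set_option autoImplicit false
set_option linter.unusedSectionVars false
set_option linter.unusedSimpArgs false

namespace Cfsg.Agent.SimpleFacts.MinDegTriality

open Cfsg.Lie Cfsg.Agent.Chevalley Cfsg.Agent.Chevalley.Table Cfsg.Agent.Chevalley.Cert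
  Cfsg.Agent.Chevalley.Group Cfsg.Agent.Chevalley.Unip Cfsg.Agent.Chevalley.Borel
  Cfsg.Agent.Chevalley.Weyl Cfsg.Agent.Chevalley.FieldAut
  Cfsg.Agent.Chevalley.Twist Cfsg.Agent.Chevalley.Twist.D4
  Cfsg.Agent.SimpleFacts.TrialitySubfield

attribute [local irreducible] P eA eC eD eN xg

theorem wa_more : ∀ p ∈ [(17, (19, (-1 : ℤ))), (20, (16, -1)), (21, (15, -1)), (14, (22, -1)),
    (22, (14, 1))], wL chevD4 [3, 2, 0] p.1 = p.2.1 ∧ etaW [3, 2, 0] p.1 = p.2.2 := by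
  decide +kernel

theorem wb_more : wL chevD4 [1] 22 = 23 ∧ etaW [1] 22 = 1 ∧ wL chevD4 [1] 14 = 9 ∧
    (etaW [1] 14 = 1 ∨ etaW [1] 14 = -1) := by
  decide +kernel

/-- The pairings of the coroots of the highest root and of the simple roots with the radical. -/
theorem pairing_ok :
    (∀ p ∈ [(14, (2 : ℤ)), (22, -1), (19, 1), (16, 1), (15, 1), (17, 0), (20, 0), (21, 0), (23, 1)],
      chevD4.cartan 1 p.1 = p.2) ∧
    (∀ s ∈ [14, 22, 19, 16, 15, 17, 20, 21],
      ∑ i ∈ Finset.range chevD4.rank, cor chevD4 23 i * chevD4.cartan i s = 1) ∧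
    chevD4.neg 23 = 0 ∧ chevD4.simple 1 = 14 ∧ chevD4.simple 0 = 18 ∧ chevD4.simple 2 = 13 ∧
    chevD4.simple 3 = 12 := by
  decide +kernel

/-- The pairings of the short orbit with the radical. -/
theorem orbit_pairing_ok : ∀ p ∈ [(14, ((-1 : ℤ), ((-1 : ℤ), (-1 : ℤ)))), (22, (1, (1, 1))),
    (19, (1, (-1, -1))), (16, (-1, (1, -1))), (15, (-1, (-1, 1))),
    (17, (-1, (1, 1))), (20, (1, (-1, 1))), (21, (1, (1, -1)))],
    chevD4.cartan 0 p.1 = p.2.1 ∧ chevD4.cartan 2 p.1 = p.2.2.1 ∧ chevD4.cartan 3 p.1 = p.2.2.2 := by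
  decide +kernel

theorem node_ok : nodePi L 0 = 2 ∧ nodePi L 2 = 3 ∧ nodePi L 3 = 0 := by decide +kernel

variable {K : Type*} [Field K] (θ : K →+* K)

local notation "Xr" => xg (F := K) hC
local notation "na" => nL hC K [3, 2, 0]
local notation "nb" => nL hC K [1]

theorem torChar_single {i : ℕ} (hi : i < chevD4.rank) (u : Kˣ) (r : ℕ) :
    torChar chevD4 (fun j => if j = i then u else 1) r = u ^ chevD4.cartan i r := by
  rw [torChar, Finset.prod_eq_single i (fun j _ hj => by rw [if_neg hj, one_zpow])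
    (fun h => absurd (Finset.mem_range.2 hi) h), if_pos rfl]

theorem torChar_cor (u : Kˣ) (r s : ℕ) :
    torChar chevD4 (fun i => u ^ cor chevD4 r i) s =
      u ^ ∑ i ∈ Finset.range chevD4.rank, cor chevD4 r i * chevD4.cartan i s := by
  rw [torChar]
  induction Finset.range chevD4.rank using Finset.induction_on with
  | empty => simp
  | insert a t ha ih => rw [Finset.prod_insert ha, Finset.sum_insert ha, ih, zpow_add, zpow_mul]

theorem conj_three' (g : GL chevD4.Idx K) {r s k : ℕ} (t u w : K) :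
    g * (Xr r t * Xr s u * Xr k w) * g⁻¹ = g * Xr r t * g⁻¹ * (g * Xr s u * g⁻¹) * (g * Xr k w * g⁻¹) := by
  group

/-! ### The monomial element -/

theorem na_conj_D (t : K) : na * eD θ t * na⁻¹ = eC θ (-t) := by
  rw [eD, conj_three hLa (by decide) (by decide) (by decide) (wa_more (17, (19, -1)) (by simp))
    (wa_more (20, (16, -1)) (by simp)) (wa_more (21, (15, -1)) (by simp))]
  simp [eC]

theorem na_conj_14 (t : K) : na * Xr 14 t * na⁻¹ = Xr 22 (-t) := by
  obtain ⟨h1, h2⟩ := wa_more (14, (22, -1)) (by simp)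
  rw [nL_conj_eta hLa (lt24 (by decide)), h1, h2, Int.cast_neg, Int.cast_one, neg_one_mul]

theorem na_conj_22 (t : K) : na * Xr 22 t * na⁻¹ = Xr 14 t := by
  obtain ⟨h1, h2⟩ := wa_more (22, (14, 1)) (by simp)
  rw [nL_conj_eta hLa (lt24 (by decide)), h1, h2, Int.cast_one, one_mul]

theorem nb_conj_22 (t : K) : nb * Xr 22 t * nb⁻¹ = Xr 23 t := by
  obtain ⟨h1, h2, -⟩ := wb_more
  rw [nL_conj_eta hLb (lt24 (by decide)), h1, h2, Int.cast_one, one_mul]

/-! ### The coroot of the long simple root -/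

theorem hg14_conj {r : ℕ} {n : ℤ}
    (h : (r, n) ∈ [(14, (2 : ℤ)), (22, -1), (19, 1), (16, 1), (15, 1), (17, 0), (20, 0), (21, 0), (23, 1)])
    (hr : r < 24) {s : K} (hs0 : s ≠ 0) (x : K) :
    hg hC 14 s * Xr r x * (hg hC 14 s)⁻¹ = Xr r (s ^ n * x) := by
  obtain ⟨hp, -, -, s1, -⟩ := pairing_ok
  obtain ⟨u, rfl⟩ : ∃ u : Kˣ, (u : K) = s := ⟨Units.mk0 s hs0, rfl⟩
  rw [← s1, hg_simple hC (by decide +kernel), tor_conj_x hC _ _ _ (lt24 hr),
    torChar_single (by decide +kernel), hp (r, n) h, Units.val_zpow_eq_zpow_val]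

theorem hg14_conj_C {s : K} (hs0 : s ≠ 0) (hs : θ s = s) (c : K) :
    hg hC 14 s * eC θ c * (hg hC 14 s)⁻¹ = eC θ (s * c) := by
  rw [eC, conj_three', hg14_conj (r := 19) (n := 1) (by simp) (by decide) hs0,
    hg14_conj (r := 16) (n := 1) (by simp) (by decide) hs0,
    hg14_conj (r := 15) (n := 1) (by simp) (by decide) hs0]
  simp only [eC, zpow_one, map_mul, hs, mul_neg]

theorem hg14_conj_D {s : K} (hs0 : s ≠ 0) (d : K) :
    hg hC 14 s * eD θ d * (hg hC 14 s)⁻¹ = eD θ d := by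
  rw [eD, conj_three', hg14_conj (r := 17) (n := 0) (by simp) (by decide) hs0,
    hg14_conj (r := 20) (n := 0) (by simp) (by decide) hs0,
    hg14_conj (r := 21) (n := 0) (by simp) (by decide) hs0]
  simp

/-! ### The coroot of the highest root -/

theorem hg23_conj {r : ℕ} (h : r ∈ [14, 22, 19, 16, 15, 17, 20, 21]) (hr : r < 24) {s : K}
    (hs0 : s ≠ 0) (x : K) : hg hC 23 s * Xr r x * (hg hC 23 s)⁻¹ = Xr r (s * x) := by
  obtain ⟨-, hp, -⟩ := pairing_ok
  obtain ⟨u, rfl⟩ : ∃ u : Kˣ, (u : K) = s := ⟨Units.mk0 s hs0, rfl⟩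
  rw [hg_eq_tor hC (lt24 (by decide)), tor_conj_x hC _ _ _ (lt24 hr), torChar_cor, hp r h, zpow_one]

theorem hg23_conj_C {s : K} (hs0 : s ≠ 0) (hs : θ s = s) (c : K) :
    hg hC 23 s * eC θ c * (hg hC 23 s)⁻¹ = eC θ (s * c) := by
  rw [eC, conj_three', hg23_conj (r := 19) (by simp) (by decide) hs0,
    hg23_conj (r := 16) (by simp) (by decide) hs0, hg23_conj (r := 15) (by simp) (by decide) hs0]
  simp only [eC, map_mul, hs, mul_neg]

theorem hg23_conj_D {s : K} (hs0 : s ≠ 0) (hs : θ s = s) (d : K) :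
    hg hC 23 s * eD θ d * (hg hC 23 s)⁻¹ = eD θ (s * d) := by
  rw [eD, conj_three', hg23_conj (r := 17) (by simp) (by decide) hs0,
    hg23_conj (r := 20) (by simp) (by decide) hs0, hg23_conj (r := 21) (by simp) (by decide) hs0]
  simp only [eD, map_mul, hs, mul_neg]

/-! ### The torus of the short orbit -/

/-- The torus element of the short orbit. -/
def hT (t : K) : GL chevD4.Idx K := hg hC 18 t * hg hC 13 (θ t) * hg hC 12 (θ (θ t))

theorem hT_conj {r : ℕ} {a b c : ℤ}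
    (h : (r, (a, (b, c))) ∈ [(14, ((-1 : ℤ), ((-1 : ℤ), (-1 : ℤ)))), (22, (1, (1, 1))),
      (19, (1, (-1, -1))), (16, (-1, (1, -1))), (15, (-1, (-1, 1))),
      (17, (-1, (1, 1))), (20, (1, (-1, 1))), (21, (1, (1, -1)))])
    (hr : r < 24) {t : K} (ht : t ≠ 0) (x : K) :
    hT θ t * Xr r x * (hT θ t)⁻¹ = Xr r (t ^ a * θ t ^ b * θ (θ t) ^ c * x) := by
  obtain ⟨-, -, -, -, s0, s2, s3⟩ := pairing_ok
  obtain ⟨hp0, hp2, hp3⟩ := orbit_pairing_ok _ h
  have e : ∀ (i : ℕ) (_ : i < chevD4.rank) (n : ℤ) (_ : chevD4.cartan i r = n) (v : K) (_ : v ≠ 0)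
      (y : K), hg hC (chevD4.simple i) v * Xr r y * (hg hC (chevD4.simple i) v)⁻¹ =
        Xr r (v ^ n * y) := by
    intro i hi n hn v hv y
    obtain ⟨u, rfl⟩ : ∃ u : Kˣ, (u : K) = v := ⟨Units.mk0 v hv, rfl⟩
    rw [hg_simple hC hi, tor_conj_x hC _ _ _ (lt24 hr), torChar_single hi, hn,
      Units.val_zpow_eq_zpow_val]
  have h3 : hT θ t * Xr r x * (hT θ t)⁻¹ = hg hC 18 t * (hg hC 13 (θ t) *
      (hg hC 12 (θ (θ t)) * Xr r x * (hg hC 12 (θ (θ t)))⁻¹) * (hg hC 13 (θ t))⁻¹) *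
      (hg hC 18 t)⁻¹ := by rw [hT]; group
  rw [h3, ← s0, ← s2, ← s3, e 3 (by decide +kernel) c hp3 _ (by simpa using ht),
    e 2 (by decide +kernel) b hp2 _ (by simpa using ht), e 0 (by decide +kernel) a hp0 _ ht]
  congr 1
  ring

theorem hT_conj_14 {t : K} (ht : t ≠ 0) (x : K) :
    hT θ t * Xr 14 x * (hT θ t)⁻¹ = Xr 14 ((nrm θ t)⁻¹ * x) := by
  rw [hT_conj θ (a := -1) (b := -1) (c := -1) (by simp) (by decide) ht, nrm]
  congr 1
  field_simp

theorem hT_conj_22 {t : K} (ht : t ≠ 0) (x : K) :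
    hT θ t * Xr 22 x * (hT θ t)⁻¹ = Xr 22 (nrm θ t * x) := by
  rw [hT_conj θ (a := 1) (b := 1) (c := 1) (by simp) (by decide) ht, nrm]
  simp only [zpow_one]

/-- The weight of the short orbit torus on the middle root group. -/
def uw (t : K) : K := t * (θ t)⁻¹ * (θ (θ t))⁻¹

theorem hT_conj_C (h3 : ∀ x, θ (θ (θ x)) = x) {t : K} (ht : t ≠ 0) (c : K) :
    hT θ t * eC θ c * (hT θ t)⁻¹ = eC θ (uw θ t * c) := by
  rw [eC, conj_three', hT_conj θ (r := 19) (a := 1) (b := -1) (c := -1) (by simp) (by decide) ht,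
    hT_conj θ (r := 16) (a := -1) (b := 1) (c := -1) (by simp) (by decide) ht,
    hT_conj θ (r := 15) (a := -1) (b := -1) (c := 1) (by simp) (by decide) ht, eC]
  simp only [uw, map_mul, map_inv₀, h3, zpow_one, zpow_neg_one, mul_neg]
  congr 2
  · congr 2; ring
  · ring

theorem hT_conj_D (h3 : ∀ x, θ (θ (θ x)) = x) {t : K} (ht : t ≠ 0) (d : K) :
    hT θ t * eD θ d * (hT θ t)⁻¹ = eD θ ((uw θ t)⁻¹ * d) := by
  rw [eD, conj_three', hT_conj θ (r := 17) (a := -1) (b := 1) (c := 1) (by simp) (by decide) ht,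
    hT_conj θ (r := 20) (a := 1) (b := -1) (c := 1) (by simp) (by decide) ht,
    hT_conj θ (r := 21) (a := 1) (b := 1) (c := -1) (by simp) (by decide) ht, eD]
  simp only [uw, map_mul, map_inv₀, mul_inv, inv_inv, h3, zpow_one, zpow_neg_one, mul_neg]
  congr 2
  · congr 2; ring
  · ring

variable [Fintype K] {q : ℕ} {hK : Fintype.card K = q ^ 3} (X : Setup (K := K) hK)
  (hθ : ∀ t, θ t = t ^ q)
include X hθ

theorem hg23_mem {s : K} (hs : θ s = s) : hg hC 23 s ∈ twistedD4 K q := by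
  rw [hg, ng, ng, pairing_ok.2.2.1]
  have h : ∀ {r : ℕ}, r ∈ [23, 0] → ∀ {t : K}, θ t = t → Xr r t ∈ twistedD4 K q := fun hr _ ht =>
    long_mem X θ hθ _ (by simp only [List.mem_cons, List.not_mem_nil, or_false] at hr ⊢; tauto) ht
  exact mul_mem (mul_mem (mul_mem (h (by simp) hs) (h (by simp) (by rw [map_neg, map_inv₀, hs])))
      (h (by simp) hs))
    (mul_mem (mul_mem (h (by simp) (by simp)) (h (by simp) (by simp))) (h (by simp) (by simp)))

theorem hT_mem {t : K} (ht : t ≠ 0) : hT θ t ∈ twistedD4 K q := by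
  obtain ⟨-, -, -, -, s0, s2, s3⟩ := pairing_ok
  obtain ⟨n0, n2, n3⟩ := node_ok
  have h3 := θ3 θ hK hθ
  have hi : ∀ i < 4, i < chevD4.rank := fun i hi => by rw [rank4]; exact hi
  have img : ∀ (i : ℕ) (_ : i < 4) (v : K),
      Img X.S (hg hC (chevD4.simple i) v) (hg hC (chevD4.simple (nodePi L i)) (θ v)) := by
    intro i h4 v
    have h1 := (img_ng_simple X.S (hi i h4) v).mul (img_ng_simple X.S (hi i h4) (-1))
    rw [X.π_eq, X.hom_eq i h4, X.hom_eq i h4, ← hθ, ← hθ, map_neg, map_one] at h1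
    exact h1
  have h := ((img 0 (by decide) t).mul (img 2 (by decide) (θ t))).mul (img 3 (by decide) (θ (θ t)))
  rw [n0, n2, n3, s0, s2, s3, h3] at h
  have hc : ∀ {v w : K} (_ : v ≠ 0) (_ : w ≠ 0) (i j : ℕ) (_ : i < 4) (_ : j < 4),
      hg hC (chevD4.simple i) v * hg hC (chevD4.simple j) w =
        hg hC (chevD4.simple j) w * hg hC (chevD4.simple i) v := by
    intro v w hv hw i j h4 h4'
    obtain ⟨u, rfl⟩ : ∃ u : Kˣ, (u : K) = v := ⟨Units.mk0 v hv, rfl⟩
    obtain ⟨u', rfl⟩ : ∃ u : Kˣ, (u : K) = w := ⟨Units.mk0 w hw, rfl⟩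
    rw [hg_simple hC (hi i h4), hg_simple hC (hi j h4'), tor_mul, tor_mul, mul_comm]
  have c1 : hg hC 12 (θ (θ t)) * hg hC 18 t = hg hC 18 t * hg hC 12 (θ (θ t)) := by
    rw [← s0, ← s3]
    exact hc (by simpa using ht) ht 3 0 (by decide) (by decide)
  have c2 : hg hC 13 (θ t) * hg hC 18 t = hg hC 18 t * hg hC 13 (θ t) := by
    rw [← s0, ← s2]
    exact hc (by simpa using ht) ht 2 0 (by decide) (by decide)
  have e : hg hC 13 (θ t) * hg hC 12 (θ (θ t)) * hg hC 18 t = hT θ t := by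
    rw [hT, mul_assoc, c1, ← mul_assoc, c2]
  rw [e] at h
  rw [← Fx_eq X.O X.gen, mem_Fx]
  exact h

end Cfsg.Agent.SimpleFacts.MinDegTriality
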