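import Cfsg.Agent.SimpleFacts.MinDegTriality.Dual
import Cfsg.Agent.SimpleFacts.TrialitySubfield.Twisted
import Mathlib.Analysis.Fourier.FiniteAbelian.PontryaginDuality

/-!
Common eigenvectors of the radical of the highest root parabolic in a representation of a triality
group, and the weights they carry.
-/

set_option autoImplicit false
set_option linter.unusedSectionVars false

namespace Cfsg.Agent.SimpleFacts.MinDegTriality

open Cfsg.Lie Cfsg.Agent.Chevalley Cfsg.Agent.Chevalley.Group Cfsg.Agent.Chevalley.Borel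
  Cfsg.Agent.Chevalley.Weyl Cfsg.Agent.Chevalley.Twist Cfsg.Agent.Chevalley.Twist.D4
  Cfsg.Agent.SimpleFacts.TrialitySubfield

attribute [local irreducible] P eA eC eD eN xg

/-! ### Generalities on representations -/

section General

variable {V : Type*} [AddCommGroup V] [Module ℂ V]

/-- Eigenvectors for distinct characters are linearly independent. -/
theorem indep_eigen {A ι : Type*} [AddCommGroup A] [Fintype ι] (R : A → Module.End ℂ V)
    (χ : ι → AddChar A ℂ) (hχ : Function.Injective χ) (w : ι → V) (hw : ∀ i, w i ≠ 0)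
    (h : ∀ i a, R a (w i) = χ i a • w i) : LinearIndependent ℂ w := by
  refine Fintype.linearIndependent_iff.2 fun g hg i => ?_
  have h0 : g i • w i = 0 := by
    rw [← Module.forall_dual_apply_eq_zero_iff ℂ]
    intro φ
    have hli := (linearIndependent_monoidHom (Multiplicative A) ℂ).comp
      (fun i => (χ i).toMonoidHom) (fun i j e => hχ (DFunLike.ext _ _ fun a =>
        DFunLike.congr_fun e (Multiplicative.ofAdd a)))
    refine Fintype.linearIndependent_iff.1 hli (fun j => φ (g j • w j)) ?_ i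
    funext a
    have h1 := congrArg φ (congrArg (R a.toAdd) hg)
    simp only [map_sum, map_smul, h, smul_eq_mul, map_zero] at h1
    simp only [Finset.sum_apply, Pi.smul_apply, Function.comp_apply, smul_eq_mul, Pi.zero_apply,
      map_smul]
    refine Eq.trans (Finset.sum_congr rfl fun j _ => ?_) h1
    show g j * φ (w j) * χ j a.toAdd = _
    ring
  exact (smul_eq_zero.1 h0).resolve_right (hw i)

variable {G : Type*} [Group G] (ρ : Representation ℂ G V)

theorem apply_ne (g : G) {v : V} (hv : v ≠ 0) : ρ g v ≠ 0 := fun e => hv (by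
  have h := congrArg (ρ g⁻¹) e
  rwa [← Module.End.mul_apply, ← map_mul, inv_mul_cancel, map_one, Module.End.one_apply, map_zero] at h)

theorem apply_moved {g x : G} {v : V} {c : ℂ} (h : ρ (g⁻¹ * x * g) v = c • v) :
    ρ x (ρ g v) = c • ρ g v := by
  rw [← map_smul, ← h]
  simp only [← Module.End.mul_apply, ← map_mul, mul_assoc, mul_inv_cancel_left]

theorem apply_mul_of {g g' : G} {v : V} {c c' : ℂ} (h : ρ g v = c • v) (h' : ρ g' v = c' • v) :
    ρ (g * g') v = (c * c') • v := by
  rw [map_mul, Module.End.mul_apply, h', map_smul, h, smul_smul, mul_comm]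

/-- A fixed vector in the image of `g - 1` vanishes. -/
theorem eq_zero_of_fixed_image [Finite G] {g : G} {v z : V} (hv : ρ g z - z = v) (hfix : ρ g v = v) :
    v = 0 := by
  have hpow : ∀ i : ℕ, ρ (g ^ i) v = v := by
    intro i
    induction i with
    | zero => rw [pow_zero, map_one, Module.End.one_apply]
    | succ i ih => rw [pow_succ, map_mul, Module.End.mul_apply, hfix, ih]
  have hsum : ∀ n : ℕ, (n : ℂ) • v = ρ (g ^ n) z - z := by
    intro n
    induction n with
    | zero => simp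
    | succ n ih =>
      have e : ρ (g ^ n) v = ρ (g ^ (n + 1)) z - ρ (g ^ n) z := by
        rw [← hv, map_sub, pow_succ, map_mul, Module.End.mul_apply]
      rw [hpow] at e
      rw [Nat.cast_succ, add_smul, one_smul, ih, e]
      abel
  have h := hsum (orderOf g)
  rw [pow_orderOf_eq_one, map_one, Module.End.one_apply, sub_self] at h
  exact (smul_eq_zero.1 h).resolve_left (Nat.cast_ne_zero.2 (orderOf_pos g).ne')

theorem exists_common_eigen [FiniteDimensional ℂ V] {ι : Type*} [Finite ι] (T : ι → V →ₗ[ℂ] V)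
    (U : Submodule ℂ V) (hU : U ≠ ⊥) (hinv : ∀ i, ∀ u ∈ U, T i u ∈ U)
    (hcomm : ∀ i j, ∀ u ∈ U, T i (T j u) = T j (T i u)) :
    ∃ u ∈ U, u ≠ 0 ∧ ∀ i, ∃ μ : ℂ, T i u = μ • u := by
  classical
  have := Fintype.ofFinite ι
  suffices h : ∀ s : Finset ι, ∃ U' ≤ U, U' ≠ ⊥ ∧ (∀ i, ∀ u ∈ U', T i u ∈ U') ∧
      ∀ i ∈ s, ∃ μ : ℂ, ∀ u ∈ U', T i u = μ • u by
    obtain ⟨U', hle, hne, -, hμ⟩ := h Finset.univ
    obtain ⟨u, hu, hu0⟩ := Submodule.exists_mem_ne_zero_of_ne_bot hne
    exact ⟨u, hle hu, hu0, fun i => (hμ i (Finset.mem_univ i)).imp fun μ h => h u hu⟩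
  intro s
  induction s using Finset.induction_on with
  | empty => exact ⟨U, le_rfl, hU, hinv, by simp⟩
  | insert a s _ ih =>
    obtain ⟨U', hle, hne, hinv', hμ⟩ := ih
    have : Nontrivial U' := Submodule.nontrivial_iff_ne_bot.2 hne
    obtain ⟨μ, hμa⟩ := Module.End.exists_eigenvalue ((T a).restrict (hinv' a))
    obtain ⟨x, hx⟩ := hμa.exists_hasEigenvector
    refine ⟨U' ⊓ Module.End.eigenspace (T a) μ, inf_le_left.trans hle, fun hbot => ?_, ?_, ?_⟩
    · refine hx.2 (Subtype.ext ((Submodule.eq_bot_iff _).1 hbot x ⟨x.2, ?_⟩))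
      have h := congrArg Subtype.val hx.apply_eq_smul
      exact Module.End.mem_eigenspace_iff.2 h
    · rintro i u ⟨hu, hu'⟩
      refine ⟨hinv' i u hu, Module.End.mem_eigenspace_iff.2 ?_⟩
      rw [hcomm a i u (hle hu), Module.End.mem_eigenspace_iff.1 hu', map_smul]
    · intro i hi
      rcases Finset.mem_insert.1 hi with rfl | hi
      · exact ⟨μ, fun u hu => Module.End.mem_eigenspace_iff.1 hu.2⟩
      · exact (hμ i hi).imp fun μ h u hu => h u hu.1

/-- The eigenvalues on an additive family of operators form a character. -/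
theorem exists_addChar {A : Type*} [AddMonoid A] (f : A → G) (h0 : f 0 = 1)
    (hadd : ∀ a b, f (a + b) = f a * f b) {v : V} (hv : v ≠ 0) (hμ : ∀ a, ∃ μ : ℂ, ρ (f a) v = μ • v) :
    ∃ χ : AddChar A ℂ, ∀ a, ρ (f a) v = χ a • v := by
  choose μ hμ using hμ
  refine ⟨⟨μ, ?_, fun a b => ?_⟩, hμ⟩
  · exact smul_left_injective ℂ hv (show μ 0 • v = (1 : ℂ) • v by
      rw [← hμ, h0, map_one, Module.End.one_apply, one_smul])
  · exact smul_left_injective ℂ hv (show μ (a + b) • v = (μ a * μ b) • v by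
      rw [← hμ, hadd]; exact apply_mul_of ρ (hμ a) (hμ b))

end General

/-! ### Characters of the fields -/

variable {K : Type*} [Field K] [Fintype K] {q : ℕ} {θ : K →+* K}

local notation "E" => E₀ q θ

theorem exists_psi : ∃ ψ : AddChar E ℂ, ψ ≠ 1 := by
  obtain ⟨ψ, hψ⟩ := AddChar.exists_apply_ne_zero.2 (one_ne_zero (α := E))
  exact ⟨ψ, fun e => hψ (by rw [e]; rfl)⟩

variable {ψ : AddChar (E₀ q θ) ℂ} (hψ : ψ ≠ 1) (h : Tri θ q)
include hψ

theorem psi_mul_inj {a : E} (ha : ∀ s, ψ (a * s) = 1) : a = 0 := by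
  by_contra ha0
  exact AddChar.IsPrimitive.of_ne_one hψ ha0 (DFunLike.ext _ _ fun s => by simpa using ha s)

theorem psi_trE_inj {b : K} (hb : ∀ c, ψ (trE θ h (b * c)) = 1) : b = 0 := by
  by_contra hb0
  obtain ⟨x, hx⟩ := trE_nondeg θ h hb0
  refine hψ (DFunLike.ext _ _ fun s => ?_)
  have h1 := hb ((((s / trE θ h (b * x)) : E) : K) * x)
  rw [mul_left_comm, trE_mul θ h, div_mul_cancel₀ _ hx] at h1
  rw [h1, AddChar.one_apply]

theorem exists_mul_rep (χ : AddChar E ℂ) : ∃ a : E, ∀ s, χ s = ψ (a * s) := by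
  classical
  have hinj : Function.Injective fun a : E => ψ.mulShift a := by
    intro a b e
    refine sub_eq_zero.1 (psi_mul_inj hψ fun s => ?_)
    have h1 := DFunLike.congr_fun e s
    simp only [AddChar.mulShift_apply] at h1
    rw [sub_mul, AddChar.map_sub_eq_div, h1, div_self (AddChar.val_isUnit ψ _).ne_zero]
  obtain ⟨a, ha⟩ := ((Fintype.bijective_iff_injective_and_card _).2 ⟨hinj,
    (AddChar.card_eq (α := E)).symm⟩).2 χ
  exact ⟨a, fun s => by rw [← ha, AddChar.mulShift_apply]⟩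

include h in
theorem exists_tr_rep (χ : AddChar K ℂ) : ∃ b : K, ∀ c, χ c = ψ (trE θ h (b * c)) := by
  classical
  let Φ : K → AddChar K ℂ := fun b =>
    { toFun := fun c => ψ (trE θ h (b * c))
      map_zero_eq_one' := by rw [mul_zero, trE_zero θ h, AddChar.map_zero_eq_one]
      map_add_eq_mul' := fun c d => by rw [mul_add, trE_add θ h, AddChar.map_add_eq_mul] }
  have hinj : Function.Injective Φ := by
    intro a b e
    refine sub_eq_zero.1 (psi_trE_inj hψ h fun c => ?_)
    have h1 : ψ (trE θ h (a * c)) = ψ (trE θ h (b * c)) := DFunLike.congr_fun e c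
    rw [sub_mul, trE_sub θ h, AddChar.map_sub_eq_div, h1, div_self (AddChar.val_isUnit ψ _).ne_zero]
  obtain ⟨b, hb⟩ := ((Fintype.bijective_iff_injective_and_card _).2 ⟨hinj,
    (AddChar.card_eq (α := K)).symm⟩).2 χ
  exact ⟨b, fun c => by rw [← hb]; rfl⟩

omit hψ

/-! ### The root elements in the group -/

variable {hK : Fintype.card K = q ^ 3} (X : Setup (K := K) hK)

set_option quotPrecheck false in
local notation "GG" => ↥(twistedD4 K q)

/-- The long simple root element. -/
noncomputable def g14 (_X : Setup (K := K) hK) (h : Tri θ q) (s : E) : GG :=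
  ⟨xg hC 14 (s : K), x14_mem θ h.pow (θE θ s)⟩

/-- The middle short root element. -/
noncomputable def gC (X : Setup (K := K) hK) (h : Tri θ q) (c : K) : GG :=
  ⟨eC θ c, eC_mem X θ h.pow c⟩

/-- The highest short root element. -/
noncomputable def gD (X : Setup (K := K) hK) (h : Tri θ q) (d : K) : GG :=
  ⟨eD θ d, eD_mem X θ h.pow d⟩

/-- The second highest long root element. -/
noncomputable def g22 (X : Setup (K := K) hK) (h : Tri θ q) (s : E) : GG :=
  ⟨xg hC 22 (s : K), long_mem X θ h.pow 22 (by simp) (θE θ s)⟩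

/-- The highest root element. -/
noncomputable def g23 (X : Setup (K := K) hK) (h : Tri θ q) (s : E) : GG :=
  ⟨xg hC 23 (s : K), long_mem X θ h.pow 23 (by simp) (θE θ s)⟩

theorem g14_add (s t : E) : g14 X h (s + t) = g14 X h s * g14 X h t :=
  Subtype.ext (xg_add hC 14 (s : K) t)

theorem g22_add (s t : E) : g22 X h (s + t) = g22 X h s * g22 X h t :=
  Subtype.ext (xg_add hC 22 (s : K) t)

theorem g23_add (s t : E) : g23 X h (s + t) = g23 X h s * g23 X h t :=
  Subtype.ext (xg_add hC 23 (s : K) t)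

theorem gC_add (s t : K) : gC X h (s + t) = gC X h s * gC X h t :=
  Subtype.ext (eC_add θ s t).symm

theorem gD_add (s t : K) : gD X h (s + t) = gD X h s * gD X h t :=
  Subtype.ext (eD_add θ s t).symm

theorem g14_zero : g14 X h 0 = 1 := Subtype.ext (xg_zero hC 14)
theorem g22_zero : g22 X h 0 = 1 := Subtype.ext (xg_zero hC 22)
theorem g23_zero : g23 X h 0 = 1 := Subtype.ext (xg_zero hC 23)
theorem gC_zero : gC X h 0 = 1 := Subtype.ext (eC_zero θ)
theorem gD_zero : gD X h 0 = 1 := Subtype.ext (eD_zero θ)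

theorem g14_g22 (s e : E) : g14 X h s * g22 X h e = g23 X h (s * e) * g22 X h e * g14 X h s :=
  Subtype.ext (B_mul_E (s : K) e)

theorem gC_gD (c d : K) : gC X h c * gD X h d = g23 X h (-trE θ h (c * d)) * gD X h d * gC X h c :=
  Subtype.ext (eC_mul_eD θ c d)

theorem comm_14_C (s : E) (c : K) : Commute (g14 X h s) (gC X h c) := Subtype.ext (B_comm_C θ _ c)

theorem comm_14_D (s : E) (d : K) : Commute (g14 X h s) (gD X h d) := Subtype.ext (B_comm_D θ _ d)

theorem comm_22_C (s : E) (c : K) : Commute (g22 X h s) (gC X h c) := Subtype.ext (E_comm_C θ _ c)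

theorem comm_22_D (s : E) (d : K) : Commute (g22 X h s) (gD X h d) := Subtype.ext (E_comm_D θ _ d)

/-- A positive unipotent element of the group commutes with the highest root elements. -/
theorem comm_23_U {x : GG} (hx : (x : GL chevD4.Idx K) ∈ chevD4.posUnipotent K) (r : E) :
    Commute x (g23 X h r) :=
  Subtype.ext (top_central hx _).eq

theorem mem_U_gens : (∀ s, (g14 X h s : GL chevD4.Idx K) ∈ chevD4.posUnipotent K) ∧
    (∀ c, (gC X h c : GL chevD4.Idx K) ∈ chevD4.posUnipotent K) ∧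
    (∀ d, (gD X h d : GL chevD4.Idx K) ∈ chevD4.posUnipotent K) ∧
    (∀ s, (g22 X h s : GL chevD4.Idx K) ∈ chevD4.posUnipotent K) ∧
    ∀ s, (g23 X h s : GL chevD4.Idx K) ∈ chevD4.posUnipotent K :=
  ⟨fun _ => mem_posU (by simp) _, fun _ => eC_mem_U θ _, fun _ => eD_mem_U θ _,
    fun _ => mem_posU (by simp) _, fun _ => mem_posU (by simp) _⟩

/-! ### Weights -/

variable {V : Type*} [AddCommGroup V] [Module ℂ V] (ρ : Representation ℂ (twistedD4 K q) V)

/-- The vectors fixed by the highest root group. -/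
noncomputable def fixR (X : Setup (K := K) hK) (h : Tri θ q) (ρ : Representation ℂ GG V) :
    Submodule ℂ V :=
  ⨅ r : E, Module.End.eigenspace (ρ (g23 X h r)) 1

theorem mem_fixR {v : V} : v ∈ fixR X h ρ ↔ ∀ r : E₀ q θ, ρ (g23 X h r) v = v := by
  simp only [fixR, Submodule.mem_iInf, Module.End.mem_eigenspace_iff, one_smul]

/-- The weight of a vector fixed by the centre. -/
structure IsWt (ψ : AddChar E ℂ) (v : V) (w : Wt q θ) : Prop where
  fix : v ∈ fixR X h ρ
  e14 : ∀ s, ρ (g14 X h s) v = ψ (w.1 * s) • v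
  eC : ∀ c, ρ (gC X h c) v = ψ (trE θ h (w.2.1 * c)) • v
  eD : ∀ d, ρ (gD X h d) v = ψ (trE θ h (w.2.2.1 * d)) • v
  e22 : ∀ s, ρ (g22 X h s) v = ψ (w.2.2.2 * s) • v

/-- The weights which occur. -/
def WtSet (ψ : AddChar E ℂ) : Set (Wt q θ) := {w | ∃ v, v ≠ 0 ∧ IsWt h X ρ ψ v w}

/-- The weight of a vector on which the centre acts non-trivially. -/
structure IsCw (ψ : AddChar E ℂ) (v : V) (w : E × K × E) : Prop where
  e14 : ∀ s, ρ (g14 X h s) v = ψ (w.1 * s) • v
  eC : ∀ c, ρ (gC X h c) v = ψ (trE θ h (w.2.1 * c)) • v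
  e23 : ∀ r, ρ (g23 X h r) v = ψ (w.2.2 * r) • v

/-- An element normalising the highest root group keeps its fixed vectors. -/
theorem fixR_map {g : GG} (hg : ∀ r, ∃ r', g⁻¹ * g23 X h r * g = g23 X h r') {v : V}
    (hv : v ∈ fixR X h ρ) : ρ g v ∈ fixR X h ρ := by
  rw [mem_fixR] at hv ⊢
  intro r
  obtain ⟨r', e⟩ := hg r
  have := apply_moved ρ (g := g) (x := g23 X h r) (v := v) (c := 1) (by rw [e, hv, one_smul])
  rwa [one_smul] at this

end Cfsg.Agent.SimpleFacts.MinDegTriality
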